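import Groth.Agent.HilbDLib.ChartAlg

/-!
# The chart algebra is of finite type
-/

set_option autoImplicit false
set_option linter.style.haveILetI false

universe u

namespace Groth.Agent.HilbDLib.Chart

noncomputable section

variable {R : Type u} [CommRing R] {B : Type u} [CommRing B] [Algebra R B] {d : ℕ} (b : Fin d → B)

theorem finiteType_ring [Algebra.FiniteType R B] : Algebra.FiniteType R (Ring' (R := R) b) := by
  classical
  obtain ⟨G, hG⟩ := (inferInstance : Algebra.FiniteType R B).out
  let gen : Finset (Ring' (R := R) b) :=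
    (Finset.univ.image fun l : Fin d => univ (R := R) b 1 l) ∪
      ((G ×ˢ (Finset.univ : Finset (Fin d × Fin d))).image fun p => univ (R := R) b (p.1 * b p.2.1) p.2.2)
  let A := Algebra.adjoin R (gen : Set (Ring' (R := R) b))
  have h1 : ∀ g ∈ G, ∀ i l, univ (R := R) b (g * b i) l ∈ A := fun g hg i l =>
    Algebra.subset_adjoin (Finset.mem_coe.2 (Finset.mem_union_right _ (Finset.mem_image.2
      ⟨(g, i, l), Finset.mem_product.2 ⟨hg, Finset.mem_univ _⟩, rfl⟩)))
  have h0 : ∀ l, univ (R := R) b 1 l ∈ A := fun l =>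
    Algebra.subset_adjoin (Finset.mem_coe.2 (Finset.mem_union_left _ (Finset.mem_image.2 ⟨l, Finset.mem_univ _, rfl⟩)))
  have hmul : ∀ g ∈ G, ∀ y : B, (∀ l, univ (R := R) b y l ∈ A) → ∀ l, univ (R := R) b (g * y) l ∈ A := fun g hg y hy l => by
    rw [(isCoord_univ (R := R) b).2 g y l]
    exact Subalgebra.sum_mem _ fun i _ => Subalgebra.mul_mem _ (hy i) (h1 g hg i l)
  have hall : ∀ β : B, ∀ y : B, (∀ l, univ (R := R) b y l ∈ A) → ∀ l, univ (R := R) b (β * y) l ∈ A := by
    intro β
    have hβ : β ∈ Algebra.adjoin R (G : Set B) := hG ▸ Algebra.mem_top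
    induction hβ using Algebra.adjoin_induction with
    | mem x hx => exact fun y hy => hmul x hx y hy
    | algebraMap r => intro y hy l; rw [← Algebra.smul_def, map_smul]; exact Subalgebra.smul_mem _ (hy l) r
    | add x x' _ _ ih ih' => intro y hy l; rw [add_mul, map_add]; exact Subalgebra.add_mem _ (ih y hy l) (ih' y hy l)
    | mul x x' _ _ ih ih' => intro y hy l; rw [mul_assoc]; exact ih (x' * y) (ih' y hy) l
  refine ⟨⟨gen, top_le_iff.1 fun z _ => ?_⟩⟩
  obtain ⟨p, rfl⟩ := Ideal.Quotient.mk_surjective z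
  induction p using MvPolynomial.induction_on with
  | C r => exact (Algebra.adjoin R _).algebraMap_mem r
  | add p q hp hq => rw [map_add]; exact Subalgebra.add_mem _ (hp trivial) (hq trivial)
  | mul_X p n hp =>
    rw [map_mul]
    refine Subalgebra.mul_mem _ (hp trivial) ?_
    have := hall n.1 1 h0 n.2
    rwa [mul_one] at this

end

end Groth.Agent.HilbDLib.Chart
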