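import Groth.Agent.HilbDLib.Cover
import Groth.Agent.OverRep.Basic
import Groth.Agent.DescLib.IdealDescent
import Groth.Agent.PicRep.Lft
import Groth.Agent.HilbDLib.ChartFT

/-!
# Representability of the Hilbert functor of points
-/

set_option autoImplicit false
set_option linter.style.haveILetI false

universe u

open CategoryTheory CategoryTheory.Limits AlgebraicGeometry Opposite

namespace Groth.Agent.HilbDLib

noncomputable section

variable {X S : Scheme.{u}} (f : X ⟶ S) (d : ℕ)

/-- The Hilbert functor of points. -/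
def funct : (Over S)ᵒᵖ ⥤ Type u where
  obj T := HilbD.Obj f d T.unop
  map g := TypeCat.ofHom fun I => ⟨HilbD.pull f g.unop I.1, isFinLocFreeOfDeg_pull f g.unop I.1 I.2⟩
  map_id T := by
    refine ConcreteCategory.hom_ext _ _ fun I => Subtype.ext ?_
    exact pull_id f I.1
  map_comp g h := by
    refine ConcreteCategory.hom_ext _ _ fun I => Subtype.ext ?_
    exact (pull_pull f h.unop g.unop I.1).symm

theorem funct_map_val {T T' : Over S} (g : T' ⟶ T) (I : HilbD.Obj f d T) :
    ((funct f d).map g.op I).1 = HilbD.pull f g I.1 := rfl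

theorem exists_pull_comp {T T' : Over S} (g : T' ⟶ T) (I : (PicF.XT f T).IdealSheafData) :
    ∃ (c : (HilbD.pull f g I).subscheme ⟶ pullback (I.subschemeι ≫ PicF.XTproj f T) g.left), IsIso c ∧
      (HilbD.pull f g I).subschemeι ≫ PicF.XTproj f T' = c ≫ pullback.snd _ _ := by
  have H := (IsPullback.of_hasPullback (PicF.XTmap f g) I.subschemeι).flip.paste_vert (isPullback_XTmap f g)
  generalize HilbD.pull f g I = J, pull_eq_comap f g I = hJ
  subst hJ
  exact ⟨(I.comapIso (PicF.XTmap f g)).hom ≫ H.isoPullback.hom, inferInstance, by simp⟩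

theorem finLocFreeOfDeg_of_cover {T : Over S} (I : (PicF.XT f T).IdealSheafData) {ι : Type u} (Z : ι → Over S)
    (g : ∀ j, Z j ⟶ T) [∀ j, IsOpenImmersion (g j).left] (hs : ∀ t, ∃ j y, (g j).left y = t)
    (h : ∀ j, Mor2.IsFinLocFreeOfDeg d ((HilbD.pull f (g j) I).subschemeι ≫ PicF.XTproj f (Z j))) :
    Mor2.IsFinLocFreeOfDeg d (I.subschemeι ≫ PicF.XTproj f T) := by
  let π := I.subschemeι ≫ PicF.XTproj f T
  let 𝒰 : T.left.OpenCover :=
    Scheme.openCoverOfIsOpenCover T.left (fun j => (g j).left.opensRange) (by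
      rw [TopologicalSpace.IsOpenCover, eq_top_iff]
      intro t _
      obtain ⟨j, y, hy⟩ := hs t
      exact TopologicalSpace.Opens.mem_iSup.2 ⟨j, ⟨y, hy⟩⟩)
  have key : ∀ (P : MorphismProperty Scheme.{u}) [IsZariskiLocalAtTarget P],
      (∀ j, P (pullback.snd π (g j).left)) → P π := by
    intro P _ hP
    refine IsZariskiLocalAtTarget.of_openCover 𝒰 fun j => ?_
    have hPj := hP j
    let e : (g j).left.opensRange.toScheme ≅ (Z j).left := (g j).left.isoOpensRange.symm
    have he : e.hom ≫ (g j).left = (g j).left.opensRange.ι := (g j).left.isoOpensRange_inv_comp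
    have Hp : IsPullback (pullback.fst π (g j).left) (pullback.snd π (g j).left ≫ e.inv) π
        (g j).left.opensRange.ι :=
      (IsPullback.of_hasPullback π (g j).left).of_iso (Iso.refl _) (Iso.refl _) e.symm (Iso.refl _)
        (by simp) (by simp) (by simp) (by simp [← he])
    show P (pullback.snd π (g j).left.opensRange.ι)
    rw [← Hp.isoPullback_inv_snd]
    rw [MorphismProperty.cancel_left_of_respectsIso P, MorphismProperty.cancel_right_of_respectsIso P]
    exact hPj
  have hj : ∀ j, Mor2.IsFinLocFreeOfDeg d (pullback.snd π (g j).left) := fun j => by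
    obtain ⟨c, hc, hce⟩ := exists_pull_comp f (g j) I
    obtain ⟨⟨a1, a2, a3⟩, a4⟩ := h j
    have e : pullback.snd π (g j).left = inv c ≫ ((HilbD.pull f (g j) I).subschemeι ≫ PicF.XTproj f (Z j)) := by
      rw [hce, IsIso.inv_hom_id_assoc]
    rw [e]
    exact ⟨⟨inferInstance, inferInstance, inferInstance⟩, fun y => by
      rw [Scheme.Hom.finrank_comp_left_of_isIso]; exact a4 y⟩
  haveI : IsFinite π := key @IsFinite fun j => (hj j).1.1
  haveI : Flat π := key @Flat fun j => (hj j).1.2.1
  haveI : LocallyOfFinitePresentation π := key @LocallyOfFinitePresentation fun j => (hj j).1.2.2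
  refine ⟨⟨inferInstance, inferInstance, inferInstance⟩, fun t => ?_⟩
  obtain ⟨j, y, rfl⟩ := hs t
  rw [← Scheme.Hom.finrank_pullback_snd]
  exact (hj j).2 y

theorem isSheaf_funct : Presheaf.IsSheaf (Scheme.zariskiTopology.over S) (funct f d) := by
  rw [isSheaf_iff_isSheaf_of_type]
  intro T R hR
  rw [GrothendieckTopology.mem_over_iff] at hR
  obtain ⟨R', hR', hle⟩ := Precoverage.mem_toGrothendieck_iff_of_isStableUnderComposition.1 hR
  obtain ⟨(𝒰₀ : Scheme.OpenCover T.left), rfl⟩ := Scheme.exists_cover_of_mem_pretopology hR'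
  let 𝒰 : Scheme.OpenCover.{u} T.left := 𝒰₀.ulift
  intro x hx
  let Z : 𝒰.I₀ → Over S := fun j => Over.mk (𝒰.f j ≫ T.hom)
  let g : ∀ j, Z j ⟶ T := fun j => Over.homMk (𝒰.f j) rfl
  have hg : ∀ j, R (g j) := fun j => (Sieve.overEquiv_iff R (𝒰.f j)).1 (hle _ _ (Presieve.ofArrows.mk _))
  haveI : ∀ j, IsOpenImmersion (g j).left := fun j => inferInstanceAs (IsOpenImmersion (𝒰.f j))
  haveI : ∀ j, IsOpenImmersion (PicF.XTmap f (g j)) := fun j =>
    MorphismProperty.of_isPullback (P := @IsOpenImmersion) (isPullback_XTmap f (g j)).flip inferInstance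
  have hs : ∀ t : T.left, ∃ j y, (g j).left y = t := fun t =>
    ⟨_, (𝒰.covers t).choose, (𝒰.covers t).choose_spec⟩
  have hsX : ∀ p : PicF.XT f T, ∃ j, p ∈ Set.range (PicF.XTmap f (g j)) := fun p => by
    obtain ⟨j, y, hy⟩ := hs (PicF.XTproj f T p)
    exact ⟨j, LineDesc.Rig.mem_range_XTmap (f := f) (g j) ⟨y, hy⟩⟩
  have hcov : Presieve.ofArrows (fun j => PicF.XT f (Z j)) (fun j => PicF.XTmap f (g j)) ∈
      Scheme.fpqcPrecoverage (PicF.XT f T) :=
    Scheme.zariskiPrecoverage_le_fpqcPrecoverage _ ((Scheme.ofArrows_mem_precoverage_iff _).2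
      ⟨fun p => hsX p, fun j => inferInstance⟩)
  obtain ⟨J, hJ, huniq⟩ := DescLib.existsUnique_descend_fpqc _ hcov (fun j => (x (g j) (hg j)).1) (fun j l => by
    let O : Over S := Over.mk (pullback.fst (𝒰.f j) (𝒰.f l) ≫ 𝒰.f j ≫ T.hom)
    let p₁ : O ⟶ Z j := Over.homMk (pullback.fst (𝒰.f j) (𝒰.f l)) rfl
    let p₂ : O ⟶ Z l := Over.homMk (pullback.snd (𝒰.f j) (𝒰.f l)) (by
      show _ ≫ 𝒰.f l ≫ T.hom = pullback.fst (𝒰.f j) (𝒰.f l) ≫ 𝒰.f j ≫ T.hom
      rw [pullback.condition_assoc])
    have hp : p₁ ≫ g j = p₂ ≫ g l := Over.OverMorphism.ext pullback.condition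
    have e := congrArg Subtype.val (hx p₁ p₂ (hg j) (hg l) hp)
    rw [funct_map_val, funct_map_val, pull_eq_comap, pull_eq_comap] at e
    let a := pullback.fst (PicF.XTmap f (g j)) (PicF.XTmap f (g l))
    let b := pullback.snd (PicF.XTmap f (g j)) (PicF.XTmap f (g l))
    let m : pullback (PicF.XTmap f (g j)) (PicF.XTmap f (g l)) ⟶ PicF.XT f O :=
      pullback.lift (a ≫ pullback.fst f (Z j).hom)
        (pullback.lift (a ≫ PicF.XTproj f (Z j)) (b ≫ PicF.XTproj f (Z l)) (by
          have := congrArg (· ≫ PicF.XTproj f T) (pullback.condition : a ≫ _ = b ≫ _)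
          simp only [Category.assoc, XTmap_snd'] at this
          simp only [Category.assoc]
          exact this)) (by
          show _ = _ ≫ pullback.fst (𝒰.f j) (𝒰.f l) ≫ 𝒰.f j ≫ T.hom
          rw [pullback.lift_fst_assoc, Category.assoc, pullback.condition, Category.assoc]
          rfl)
    have h1 : m ≫ PicF.XTmap f p₁ = a := by
      apply pullback.hom_ext
      · rw [Category.assoc, XTmap_fst', pullback.lift_fst]
      · rw [Category.assoc]
        refine (congrArg (m ≫ ·) (XTmap_snd' p₁)).trans ?_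
        rw [← Category.assoc, pullback.lift_snd]
        exact pullback.lift_fst _ _ _
    have h2 : m ≫ PicF.XTmap f p₂ = b := by
      apply pullback.hom_ext
      · rw [Category.assoc, XTmap_fst', pullback.lift_fst]
        have := congrArg (· ≫ pullback.fst f T.hom) (pullback.condition : a ≫ _ = b ≫ _)
        simpa only [Category.assoc, XTmap_fst'] using this
      · rw [Category.assoc]
        refine (congrArg (m ≫ ·) (XTmap_snd' p₂)).trans ?_
        rw [← Category.assoc, pullback.lift_snd]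
        exact pullback.lift_snd _ _ _
    have := congrArg (fun I => I.comap m) e
    simp only [← Scheme.IdealSheafData.comap_comp] at this
    rwa [h1, h2] at this)
  have hdeg : Mor2.IsFinLocFreeOfDeg d (J.subschemeι ≫ PicF.XTproj f T) :=
    finLocFreeOfDeg_of_cover f d J Z g hs fun j => by
      rw [pull_eq_comap, hJ j]
      exact (x (g j) (hg j)).2
  refine ⟨⟨J, hdeg⟩, fun W w hw => Subtype.ext ?_, fun K hK => Subtype.ext (huniq K.1 fun j => ?_)⟩
  · show HilbD.pull f w J = (x w hw).1
    let Y : 𝒰.I₀ → Over S := fun j => Over.mk (pullback.fst w.left (𝒰.f j) ≫ W.hom)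
    let q : ∀ j, Y j ⟶ W := fun j => Over.homMk (pullback.fst w.left (𝒰.f j)) rfl
    let q' : ∀ j, Y j ⟶ Z j := fun j => Over.homMk (pullback.snd w.left (𝒰.f j)) (by
      show _ ≫ 𝒰.f j ≫ T.hom = pullback.fst w.left (𝒰.f j) ≫ W.hom
      rw [← pullback.condition_assoc, Over.w w])
    haveI : ∀ j, IsOpenImmersion (PicF.XTmap f (q j)) := fun j =>
      MorphismProperty.of_isPullback (P := @IsOpenImmersion) (isPullback_XTmap f (q j)).flip
        (inferInstanceAs (IsOpenImmersion (pullback.fst w.left (𝒰.f j))))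
    refine DescLib.eq_of_flat_family (fun j => PicF.XTmap f (q j)) (fun p => ?_) fun j => ?_
    · obtain ⟨j, y, hy⟩ := hs (w.left (PicF.XTproj f W p))
      obtain ⟨r, hr, -⟩ := Scheme.Pullback.exists_preimage_pullback (f := w.left) (g := 𝒰.f j)
        (PicF.XTproj f W p) y hy.symm
      obtain ⟨s, hs⟩ := LineDesc.Rig.mem_range_XTmap (f := f) (q j) (p := p) ⟨r, hr⟩
      exact ⟨j, s, hs⟩
    · have hq : q j ≫ w = q' j ≫ g j := Over.OverMorphism.ext pullback.condition
      have e := congrArg Subtype.val (hx (q j) (q' j) hw (hg j) hq)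
      rw [funct_map_val, funct_map_val] at e
      rw [← pull_eq_comap, ← pull_eq_comap, e, pull_pull, hq, ← pull_pull, pull_eq_comap f (g j), hJ j]
  · rw [← pull_eq_comap]
    exact congrArg Subtype.val (hK (g j) (hg j))

variable {f d}

/-- A universal family of points exists, and is locally of finite type with `f`, if finitely many points of a fibre lie in an affine open. -/
theorem exists_universal_lft [IsSeparated f]
    (h : ∀ (s : S) (x : Fin d → X), (∀ j, f.base (x j) = s) → ∃ U : X.Opens, IsAffineOpen U ∧ ∀ j, x j ∈ U) :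
    ∃ (H : Over S) (Z : HilbD.Obj f d H), HilbD.IsUniversal f d H Z ∧
      (LocallyOfFiniteType f → LocallyOfFiniteType H.hom) := by
  have hcl : ∀ i : Idx f d, IsClosedImmersion i.univDat.ι := fun i =>
    i.univDat.isClosedImmersion_ι i.gen_univDat
  have hdeg : ∀ i : Idx f d, Mor2.IsFinLocFreeOfDeg d (i.Z.subschemeι ≫ PicF.XTproj f i.P) := by
    intro i
    haveI := hcl i
    rw [Idx.Dat.deg_iff]
    obtain ⟨e, -⟩ := Chart.exists_basis i.b _ (Chart.isCoord_univ (R := Γ(S, i.V)) i.b)
    haveI : Module.Free (Chart.Ring' (R := Γ(S, i.V)) i.b) i.univDat.Q := Module.Free.of_basis e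
    haveI : Module.FinitePresentation (Chart.Ring' (R := Γ(S, i.V)) i.b) i.univDat.Q :=
      Module.finitePresentation_of_projective _ _
    refine ⟨⟨?_, ?_, ?_⟩, fun p => ?_⟩
    · rw [IsFinite.SpecMap_iff]; exact RingHom.finite_algebraMap.2 inferInstance
    · rw [Flat.SpecMap_iff]; exact RingHom.flat_algebraMap_iff.2 inferInstance
    · rw [LocallyOfFinitePresentation.SpecMap_iff]
      exact RingHom.finitePresentation_algebraMap.2 inferInstance
    · haveI : Nontrivial (Chart.Ring' (R := Γ(S, i.V)) i.b) := PrimeSpectrum.nonempty_iff_nontrivial.1 ⟨p⟩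
      rw [Scheme.Hom.finrank_SpecMap_algebraMap, Module.rankAtStalk_eq_finrank_of_free]
      have hc : Module.finrank (Chart.Ring' (R := Γ(S, i.V)) i.b) i.univDat.Q = d :=
        (Module.finrank_eq_card_basis e).trans (Fintype.card_fin d)
      rw [hc]
      rfl
  let e : ∀ i : Idx f d, (funct f d).obj (op i.P) := fun i => (⟨i.Z, hdeg i⟩ : HilbD.Obj f d i.P)
  let O : ∀ (i : Idx f d) (T : Over S), (funct f d).obj (op T) → T.left.Opens := fun i T x => i.locus x.1
  have hO : ∀ (i : Idx f d) (T : Over S) (x : (funct f d).obj (op T)) (T' : Over S) (t : T' ⟶ T),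
      Set.range t.left ⊆ O i T x ↔ ∃ q : T' ⟶ i.P, (funct f d).map q.op (e i) = (funct f d).map t.op x :=
    fun i T x T' t => by
      constructor
      · intro ht
        have htop : i.locus (HilbD.pull f t x.1) = ⊤ := by
          refine eq_top_iff.2 fun p' _ => ?_
          obtain ⟨⟨W, hW⟩, hpW⟩ := TopologicalSpace.Opens.mem_iSup.1 (ht ⟨p', rfl⟩)
          let W' : T'.left.Opens := t.left ⁻¹ᵁ W
          let m : Idx.opn T' W' ⟶ Idx.opn T W := Over.homMk (t.left ∣_ W) (by
            show (t.left ∣_ W) ≫ W.ι ≫ T.hom = W'.ι ≫ T'.hom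
            rw [morphismRestrict_ι_assoc, Over.w t])
          refine TopologicalSpace.Opens.mem_iSup.2 ⟨⟨W', ?_⟩, hpW⟩
          have hm : Idx.opnι T' W' ≫ t = m ≫ Idx.opnι T W :=
            Over.OverMorphism.ext (morphismRestrict_ι t.left W).symm
          rw [pull_pull, hm, ← pull_pull]
          exact hW.pull i m
        obtain ⟨q, hq⟩ := i.isIn_of_locus _ htop
        exact ⟨q, Subtype.ext hq⟩
      · rintro ⟨q, hq⟩ _ ⟨p', rfl⟩
        exact i.mem_locus_of_isIn x t ⟨q, congrArg Subtype.val hq⟩ p'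
  have hinj : ∀ (i : Idx f d) (T : Over S) (q q' : T ⟶ i.P),
      (funct f d).map q.op (e i) = (funct f d).map q'.op (e i) → q = q' :=
    fun i T q q' hq => i.hom_ext q q' (congrArg Subtype.val hq)
  have hcov : ∀ (T : Over S) (x : (funct f d).obj (op T)) (p : T.left), ∃ i, p ∈ O i T x :=
    fun T x p => exists_mem_locus h x p
  obtain ⟨H, ⟨r⟩⟩ := OverRep.exists_representableBy (F := funct f d) (isSheaf_funct f d)
    (fun i : Idx f d => i.P) e O hO hinj hcov
  refine ⟨H, r.homEquiv (𝟙 H), fun T Z' => ⟨r.homEquiv.symm Z', ?_, fun g hg => ?_⟩, fun hf => ?_⟩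
  · have := congrArg Subtype.val ((r.homEquiv_eq (r.homEquiv.symm Z')).symm.trans (r.homEquiv.apply_symm_apply Z'))
    exact this
  · refine r.homEquiv.injective ((r.homEquiv_eq g).trans ?_)
    rw [Equiv.apply_symm_apply]
    exact Subtype.ext hg
  · refine OverRep.locallyOfFiniteType_of_charts r (fun i : Idx f d => i.P) e O hO hinj hcov fun i => ?_
    haveI := hf
    haveI : Algebra.FiniteType Γ(S, i.V) Γ(X, i.U) :=
      HasRingHomProperty.appLE @LocallyOfFiniteType f inferInstance ⟨i.V, i.hV⟩ ⟨i.U, i.hU⟩ i.le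
    haveI := Chart.finiteType_ring (R := Γ(S, i.V)) i.b
    haveI : LocallyOfFiniteType (Spec.map (CommRingCat.ofHom i.univDat.tV)) := by
      rw [HasRingHomProperty.Spec_iff (P := @LocallyOfFiniteType)]
      exact RingHom.finiteType_algebraMap.2 inferInstance
    show LocallyOfFiniteType (Spec.map (CommRingCat.ofHom i.univDat.tV) ≫ i.hV.fromSpec)
    infer_instance

/-- The Hilbert functor of points is representable if finitely many points of a fibre lie in an affine open. -/
theorem representable [IsSeparated f]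
    (h : ∀ (s : S) (x : Fin d → X), (∀ j, f.base (x j) = s) → ∃ U : X.Opens, IsAffineOpen U ∧ ∀ j, x j ∈ U) :
    HilbD.Representable f d := by
  obtain ⟨H, Z, hZ, -⟩ := exists_universal_lft h
  exact ⟨H, Z, hZ⟩

end

end Groth.Agent.HilbDLib
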