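import Groth.Agent.HilbDLib.Diagonal
import Groth.Agent.HilbDLib.Rep
import Groth.Agent.FComplLib.IdealComap
import Groth.Agent.RelCurve.Sum
import Groth.Agent.ModPairLib.Quot
import Groth.Agent.S1172
import Groth.Agent.S1184

/-!
# Adding a point to a divisor on a curve: the universal divisor as a Hilbert scheme of flags
-/

set_option autoImplicit false
set_option maxHeartbeats 1000000
set_option linter.style.haveILetI false
set_option backward.isDefEq.respectTransparency false
set_option backward.isDefEq.respectTransparency.types false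

universe u
open CategoryTheory CategoryTheory.Limits AlgebraicGeometry

namespace Groth.Agent.HilbDLib

variable {X S : Scheme.{u}} (f : X ⟶ S)

theorem pull_mul {T T' : Over S} (g : T' ⟶ T) (I J : (PicF.XT f T).IdealSheafData) :
    HilbD.pull f g (I * J) = HilbD.pull f g I * HilbD.pull f g J := by
  rw [pull_eq_comap, pull_eq_comap, pull_eq_comap, FComplLib.comap_mul]

theorem comap_le_ker_iff {A B W : Scheme.{u}} (s : W ⟶ A) (h : A ⟶ B) (I : B.IdealSheafData) :
    I.comap h ≤ s.ker ↔ I ≤ (s ≫ h).ker := by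
  rw [← Scheme.IdealSheafData.map_ker, Scheme.IdealSheafData.le_map_iff_comap_le]

variable [IsSeparated f]

theorem pull_sec {T T' : Over S} (g : T' ⟶ T) (x : T.left ⟶ X) (hx : x ≫ f = T.hom) :
    HilbD.pull f g (sec f T x hx).ker =
      (sec f T' (g.left ≫ x) (by rw [Category.assoc, hx, Over.w g])).ker := by
  have h1 := pull_diagonal f (Over.homMk x hx : T ⟶ Over.mk f)
  have h2 := pull_diagonal f (g ≫ Over.homMk x hx : T' ⟶ Over.mk f)
  rw [← pull_pull] at h2
  exact (congrArg (HilbD.pull f g) h1).symm.trans h2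

theorem isEffCartier_of_obj [SmoothOfRelativeDimension 1 f] {d : ℕ} {T : Over S} (I : HilbD.Obj f d T) :
    BlowUp.IsEffCartierIdeal I.1 := by
  haveI := smoothOfRelativeDimension_isStableUnderBaseChange 1
  haveI : SmoothOfRelativeDimension 1 (PicF.XTproj f T) :=
    MorphismProperty.pullback_snd (P := @SmoothOfRelativeDimension 1) f T.hom inferInstance
  exact ((S1184.result (PicF.XTproj f T) I.1).2 I.2.1).1

theorem finLocFreeOfDeg_sec {T : Over S} (x : T.left ⟶ X) (hx : x ≫ f = T.hom) :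
    Mor2.IsFinLocFreeOfDeg 1 ((sec f T x hx).ker.subschemeι ≫ PicF.XTproj f T) := by
  have h1 : (sec f T x hx).toImage ≫ (sec f T x hx).ker.subschemeι ≫ PicF.XTproj f T = 𝟙 _ := by
    rw [← Category.assoc, show (sec f T x hx).toImage ≫ (sec f T x hx).ker.subschemeι = sec f T x hx from
      (sec f T x hx).toImage_imageι]
    exact sec_proj f T x hx
  haveI := isClosedImmersion_sec f T x hx
  haveI : IsIso ((sec f T x hx).ker.subschemeι ≫ PicF.XTproj f T) := IsIso.of_isIso_fac_left h1
  exact ⟨⟨inferInstance, inferInstance, inferInstance⟩, congrFun (Scheme.Hom.finrank_eq_one_of_isIso _)⟩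

theorem sec_congr {T : Over S} {x y : T.left ⟶ X} (h : x = y) (hx : x ≫ f = T.hom) (hy : y ≫ f = T.hom) :
    sec f T x hx = sec f T y hy := by
  subst h; rfl

/-- **Adding a point is finite locally free.** -/
theorem addPoint [SmoothOfRelativeDimension 1 f]
    {d : ℕ} {H : Over S} {Z : HilbD.Obj f d H} (hZ : HilbD.IsUniversal f d H Z)
    {H' : Over S} {Z' : HilbD.Obj f (d + 1) H'} (hZ' : HilbD.IsUniversal f (d + 1) H' Z')
    (m : Over.mk (pullback.fst H.hom f ≫ H.hom) ⟶ H')
    (hm : HilbD.pull f m Z'.1 =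
      HilbD.pull f (Over.homMk (pullback.fst H.hom f) rfl : Over.mk (pullback.fst H.hom f ≫ H.hom) ⟶ H) Z.1 *
        HilbD.secGraph f (Over.mk (pullback.fst H.hom f ≫ H.hom)) (pullback.snd H.hom f) pullback.condition.symm) :
    ∃ e : pullback H.hom f ≅ Z'.1.subscheme, m.left = e.hom ≫ Z'.1.subschemeι ≫ PicF.XTproj f H' := by
  let T : Over S := Over.mk (pullback.fst H.hom f ≫ H.hom)
  let π : T ⟶ H := Over.homMk (pullback.fst H.hom f) rfl
  let x : T.left ⟶ X := pullback.snd H.hom f
  have hx : x ≫ f = T.hom := pullback.condition.symm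
  rw [secGraph_eq] at hm
  -- the map into the divisor
  have hle : Z'.1 ≤ (sec f T x hx ≫ PicF.XTmap f m).ker := by
    rw [← comap_le_ker_iff, ← pull_eq_comap, hm]
    exact RelCurve.mul_le_right' _ _
  let n : T.left ⟶ Z'.1.subscheme := IsClosedImmersion.lift Z'.1.subschemeι (sec f T x hx ≫ PicF.XTmap f m)
    (by rw [Scheme.IdealSheafData.ker_subschemeι]; exact hle)
  have hn : n ≫ Z'.1.subschemeι = sec f T x hx ≫ PicF.XTmap f m := IsClosedImmersion.lift_fac _ _ _
  have hn' : n ≫ Z'.1.subschemeι ≫ PicF.XTproj f H' = m.left := by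
    rw [← Category.assoc, hn, Category.assoc, show PicF.XTmap f m ≫ PicF.XTproj f H' = PicF.XTproj f T ≫ m.left from
      pullback.lift_snd _ _ _, ← Category.assoc, sec_proj, Category.id_comp]
  -- the inverse
  let T₂ : Over S := Over.mk ((Z'.1.subschemeι ≫ PicF.XTproj f H') ≫ H'.hom)
  let p : T₂ ⟶ H' := Over.homMk (Z'.1.subschemeι ≫ PicF.XTproj f H') rfl
  let x₂ : T₂.left ⟶ X := Z'.1.subschemeι ≫ pullback.fst f H'.hom
  have hx₂ : x₂ ≫ f = T₂.hom := by
    simp only [x₂, Category.assoc, pullback.condition]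
    exact (Category.assoc _ _ _).symm
  have hs₂ : sec f T₂ x₂ hx₂ ≫ PicF.XTmap f p = Z'.1.subschemeι := by
    refine pullback.hom_ext ?_ ?_
    · rw [Category.assoc, show PicF.XTmap f p ≫ pullback.fst f H'.hom = pullback.fst f T₂.hom from
        (pullback.lift_fst _ _ _).trans (Category.comp_id _), sec_fst]
    · rw [Category.assoc, show PicF.XTmap f p ≫ pullback.snd f H'.hom = PicF.XTproj f T₂ ≫ p.left from
        pullback.lift_snd _ _ _, ← Category.assoc, sec_proj, Category.id_comp]
      rfl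
  have hle₂ : HilbD.pull f p Z'.1 ≤ (sec f T₂ x₂ hx₂).ker := by
    rw [pull_eq_comap, comap_le_ker_iff, hs₂, Scheme.IdealSheafData.ker_subschemeι]
  haveI := smoothOfRelativeDimension_isStableUnderBaseChange 1
  haveI : SmoothOfRelativeDimension 1 (PicF.XTproj f T₂) :=
    MorphismProperty.pullback_snd (P := @SmoothOfRelativeDimension 1) f T₂.hom inferInstance
  obtain ⟨D, hD, hDmul⟩ := S1172.result (PicF.XTproj f T₂) _ _ hle₂ 1 (d + 1) (finLocFreeOfDeg_sec f x₂ hx₂)
    (isFinLocFreeOfDeg_pull f p Z'.1 Z'.2)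
  rw [Nat.add_sub_cancel] at hD
  obtain ⟨k₀, hk₀, -⟩ := hZ T₂ ⟨D, hD⟩
  let k : T₂.left ⟶ T.left := pullback.lift k₀.left x₂ (by rw [Over.w k₀, hx₂])
  have hk1 : k ≫ pullback.fst H.hom f = k₀.left := pullback.lift_fst _ _ _
  have hk2 : k ≫ x = x₂ := pullback.lift_snd _ _ _
  let kk : T₂ ⟶ T := Over.homMk k (by
    show k ≫ pullback.fst H.hom f ≫ H.hom = _
    rw [← Category.assoc, hk1, Over.w k₀])
  have hkπ : kk ≫ π = k₀ := Over.OverMorphism.ext hk1
  have hkm : kk ≫ m = p := by
    refine (hZ' T₂ ⟨_, isFinLocFreeOfDeg_pull f p Z'.1 Z'.2⟩).unique ?_ rfl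
    show HilbD.pull f (kk ≫ m) Z'.1 = HilbD.pull f p Z'.1
    rw [← pull_pull, hm, pull_mul, pull_pull, hkπ, hk₀, pull_sec, hDmul, mul_comm]
    exact congrArg (fun s : T₂.left ⟶ PicF.XT f T₂ => s.ker * D) (sec_congr f hk2 _ hx₂)
  refine ⟨⟨n, k, ?_, ?_⟩, hn'.symm⟩
  · -- n ≫ k = 𝟙
    let nn : T ⟶ T₂ := Over.homMk n (by
      show n ≫ (Z'.1.subschemeι ≫ PicF.XTproj f H') ≫ H'.hom = _
      rw [← Category.assoc, hn', Over.w m])
    have hnx : n ≫ x₂ = x := by
      simp only [x₂]
      rw [← Category.assoc, hn, Category.assoc, show PicF.XTmap f m ≫ pullback.fst f H'.hom = pullback.fst f T.hom from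
        (pullback.lift_fst _ _ _).trans (Category.comp_id _), sec_fst]
    have hD' : HilbD.pull f nn D = HilbD.pull f π Z.1 := by
      refine ModPairLib.eq_of_mul_eq_mul (isEffCartier_of_obj f (d := 1) ⟨_, finLocFreeOfDeg_sec f x hx⟩) ?_
      rw [← hm, ← show nn ≫ p = m from Over.OverMorphism.ext hn', ← pull_pull, hDmul, pull_mul, pull_sec, mul_comm]
      exact congrArg (fun s : T.left ⟶ PicF.XT f T => s.ker * HilbD.pull f nn D) (sec_congr f hnx.symm hx _)
    have hu : nn ≫ k₀ = π := (hZ T ⟨_, isFinLocFreeOfDeg_pull f π Z.1 Z.2⟩).unique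
      (by rw [← pull_pull, hk₀]; exact hD') rfl
    refine pullback.hom_ext ?_ ?_
    · rw [Category.assoc, hk1, Category.id_comp]
      exact congrArg CommaMorphism.left hu
    · rw [Category.assoc, hk2, Category.id_comp]
      exact hnx
  · -- k ≫ n = 𝟙
    rw [← cancel_mono Z'.1.subschemeι, Category.assoc, hn, Category.id_comp]
    refine pullback.hom_ext ?_ ?_
    · rw [Category.assoc, Category.assoc, show PicF.XTmap f m ≫ pullback.fst f H'.hom = pullback.fst f T.hom from
        (pullback.lift_fst _ _ _).trans (Category.comp_id _), sec_fst, hk2]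
    · rw [Category.assoc, Category.assoc, show PicF.XTmap f m ≫ pullback.snd f H'.hom = PicF.XTproj f T ≫ m.left from
        pullback.lift_snd _ _ _, ← Category.assoc (sec f T x hx), sec_proj, Category.id_comp]
      exact congrArg CommaMorphism.left hkm

end Groth.Agent.HilbDLib
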