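import Mathlib

/-!
# The affine chart of the Hilbert functor of points: quotients with a prescribed basis
-/

set_option autoImplicit false
set_option linter.style.haveILetI false

universe u

open TensorProduct CategoryTheory

namespace Groth.Agent.HilbDLib.Chart

noncomputable section

variable {R : Type u} [CommRing R] {B : Type u} [CommRing B] [Algebra R B] {d : ℕ} (b : Fin d → B)

/-- A linear map is the coordinate map of a quotient with basis `b`. -/
def IsCoord {A : Type u} [CommRing A] [Algebra R A] (φ : B →ₗ[R] (Fin d → A)) : Prop :=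
  (∀ j, φ (b j) = Pi.single j 1) ∧ ∀ c y l, φ (c * y) l = ∑ i, φ y i * φ (c * b i) l

/-- The variables. -/
abbrev x (β : B) (l : Fin d) : MvPolynomial (B × Fin d) R := MvPolynomial.X (β, l)

/-- The equations of the chart. -/
def eqs : Set (MvPolynomial (B × Fin d) R) :=
  {p | ∃ β β' l, p = x (R := R) (β + β') l - x β l - x β' l} ∪
  {p | ∃ (r : R) (β : B) (l : Fin d), p = x (r • β) l - MvPolynomial.C r * x β l} ∪
  {p | ∃ j l, p = x (R := R) (b j) l - MvPolynomial.C ((Pi.single j 1 : Fin d → R) l)} ∪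
  {p | ∃ c y l, p = x (R := R) (c * y) l - ∑ i, x y i * x (c * b i) l}

/-- The ring of the chart. -/
abbrev Ring' : Type u := MvPolynomial (B × Fin d) R ⧸ Ideal.span (eqs (R := R) b)

theorem mk_eq_of_mem {p q : MvPolynomial (B × Fin d) R} (h : p - q ∈ eqs b) :
    Ideal.Quotient.mk (Ideal.span (eqs b)) p = Ideal.Quotient.mk (Ideal.span (eqs b)) q :=
  Ideal.Quotient.eq.2 (Ideal.subset_span h)

/-- The universal coordinate map. -/
def univ : B →ₗ[R] (Fin d → Ring' (R := R) b) where
  toFun β l := Ideal.Quotient.mk (Ideal.span (eqs b)) (x β l)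
  map_add' β β' := by
    funext l
    show _ = Ideal.Quotient.mk (Ideal.span (eqs b)) (x β l) + Ideal.Quotient.mk (Ideal.span (eqs b)) (x β' l)
    rw [← map_add]
    exact mk_eq_of_mem b (Or.inl (Or.inl (Or.inl ⟨β, β', l, by ring⟩)))
  map_smul' r β := by
    funext l
    show _ = r • Ideal.Quotient.mk (Ideal.span (eqs b)) (x β l)
    show Ideal.Quotient.mk (Ideal.span (eqs b)) (x (r • β) l) = r • Ideal.Quotient.mk (Ideal.span (eqs b)) (x β l)
    rw [← Ideal.Quotient.mk_eq_mk, ← Ideal.Quotient.mk_eq_mk, ← Submodule.Quotient.mk_smul, MvPolynomial.smul_eq_C_mul]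
    exact mk_eq_of_mem b (Or.inl (Or.inl (Or.inr ⟨r, β, l, rfl⟩)))

theorem isCoord_univ : IsCoord b (univ (R := R) b) := by
  refine ⟨fun j => ?_, fun c y l => ?_⟩
  · funext l
    have h := mk_eq_of_mem (R := R) (p := x (b j) l) (q := MvPolynomial.C ((Pi.single j 1 : Fin d → R) l)) b
      (Or.inl (Or.inr ⟨j, l, rfl⟩))
    refine h.trans ?_
    rcases eq_or_ne l j with rfl | hl
    · simp
    · simp [Pi.single_eq_of_ne hl]
  · refine (mk_eq_of_mem b (Or.inr ⟨c, y, l, rfl⟩)).trans ?_
    rw [map_sum]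
    exact Finset.sum_congr rfl fun i _ => map_mul _ _ _

variable {A : Type u} [CommRing A] [Algebra R A]

/-- Coordinate maps are points of the chart. -/
theorem exists_point (φ : B →ₗ[R] (Fin d → A)) (hφ : IsCoord b φ) :
    ∃ χ : Ring' (R := R) b →ₐ[R] A, ∀ β l, χ (univ b β l) = φ β l := by
  let e : MvPolynomial (B × Fin d) R →ₐ[R] A := MvPolynomial.aeval fun p => φ p.1 p.2
  have h : ∀ p ∈ Ideal.span (eqs (R := R) b), e p = 0 := by
    intro p hp
    refine Ideal.span_le (I := RingHom.ker e.toRingHom).2 ?_ hp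
    rintro q (((⟨β, β', l, rfl⟩ | ⟨r, β, l, rfl⟩) | ⟨j, l, rfl⟩) | ⟨c, y, l, rfl⟩)
    · show e _ = 0
      simp [e, x]
    · show e _ = 0
      simp [e, x, ← Algebra.smul_def]
    · show e _ = 0
      simp only [e, x, map_sub, MvPolynomial.aeval_X, MvPolynomial.aeval_C, hφ.1]
      rcases eq_or_ne l j with rfl | hl
      · simp
      · simp [Pi.single_eq_of_ne hl]
    · show e _ = 0
      simp only [e, x, map_sub, MvPolynomial.aeval_X, map_sum, map_mul, hφ.2 c y l, sub_self]
  exact ⟨Ideal.Quotient.liftₐ _ e h, fun β l => by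
    show Ideal.Quotient.liftₐ _ e h (Ideal.Quotient.mk (Ideal.span (eqs b)) (x β l)) = _
    simp [e, x]⟩

/-- Points of the chart are determined by their coordinates. -/
theorem point_ext {χ χ' : Ring' (R := R) b →ₐ[R] A} (h : ∀ β l, χ (univ b β l) = χ' (univ b β l)) : χ = χ' := by
  refine Ideal.Quotient.algHom_ext _ (MvPolynomial.algHom_ext fun p => ?_)
  exact h p.1 p.2

/-- The coordinates of an algebra with basis the images of `b`. -/
theorem isCoord_of_basis {Q : Type u} [CommRing Q] [Algebra R Q] [Algebra A Q] [IsScalarTower R A Q]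
    (ψ : B →ₐ[R] Q) (e : Module.Basis (Fin d) A Q) (he : ∀ j, e j = ψ (b j)) :
    IsCoord b ((e.equivFun.toLinearMap.restrictScalars R) ∘ₗ ψ.toLinearMap) := by
  refine ⟨fun j => ?_, fun c y l => ?_⟩
  · show e.equivFun (ψ (b j)) = _
    rw [← he]
    funext l
    rw [Module.Basis.equivFun_self]
    simp [Pi.single_apply, eq_comm]
  · show e.equivFun (ψ (c * y)) l = ∑ i, e.equivFun (ψ y) i * e.equivFun (ψ (c * b i)) l
    have h : ψ (c * y) = ∑ i, e.equivFun (ψ y) i • ψ (c * b i) := by
      conv_lhs => rw [map_mul, ← e.sum_equivFun (ψ y)]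
      rw [Finset.mul_sum]
      exact Finset.sum_congr rfl fun i _ => by rw [mul_smul_comm, he, map_mul]
    rw [h, map_sum, Finset.sum_apply]
    exact Finset.sum_congr rfl fun i _ => by rw [map_smul]; rfl

section quot

variable (φ : B →ₗ[R] (Fin d → A)) (hφ : IsCoord b φ)

include hφ in
theorem surjective_liftBaseChange : Function.Surjective (φ.liftBaseChange A) := fun v =>
  ⟨∑ j, v j ⊗ₜ b j, by
    rw [map_sum]
    funext l
    simp only [LinearMap.liftBaseChange_tmul, hφ.1, Finset.sum_apply, Pi.smul_apply, smul_eq_mul]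
    rw [Finset.sum_eq_single l]
    · simp
    · intro j _ hj
      simp [Pi.single_eq_of_ne (Ne.symm hj)]
    · simp⟩

include hφ in
theorem liftBaseChange_mul (a : A) (c : B) (z : A ⊗[R] B) (l : Fin d) :
    φ.liftBaseChange A ((a ⊗ₜ c) * z) l = a * ∑ i, φ.liftBaseChange A z i * φ (c * b i) l := by
  induction z with
  | zero => simp
  | tmul a' y =>
    simp only [Algebra.TensorProduct.tmul_mul_tmul, LinearMap.liftBaseChange_tmul, Pi.smul_apply, smul_eq_mul,
      hφ.2 c y l, Finset.mul_sum]
    exact Finset.sum_congr rfl fun i _ => by ring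
  | add z w hz hw =>
    simp only [mul_add, map_add, Pi.add_apply, hz, hw, ← Finset.sum_add_distrib]
    simp only [add_mul, Finset.sum_add_distrib, mul_add]

/-- The kernel ideal. -/
def kerIdeal : Ideal (A ⊗[R] B) where
  carrier := {z | φ.liftBaseChange A z = 0}
  zero_mem' := map_zero _
  add_mem' h h' := by simp_all
  smul_mem' w z h := by
    change φ.liftBaseChange A (w * z) = 0
    induction w with
    | zero => simp
    | tmul a c =>
      funext l
      rw [liftBaseChange_mul b φ hφ]
      simp [show φ.liftBaseChange A z = 0 from h]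
    | add w w' hw hw' => rw [add_mul, map_add, hw, hw', add_zero]

/-- The quotient algebra of a coordinate map. -/
abbrev Quot' : Type u := (A ⊗[R] B) ⧸ kerIdeal b φ hφ

/-- The map `B → Q`. -/
def toQuot : B →ₐ[R] Quot' b φ hφ :=
  ((Ideal.Quotient.mkₐ A (kerIdeal b φ hφ)).restrictScalars R).comp Algebra.TensorProduct.includeRight

theorem exists_basis : ∃ e : Module.Basis (Fin d) A (Quot' b φ hφ), ∀ j, e j = toQuot b φ hφ (b j) := by
  let L : Quot' b φ hφ →ₗ[A] (Fin d → A) :=
    ((kerIdeal b φ hφ).restrictScalars A).liftQ (φ.liftBaseChange A) (fun z hz => hz) ∘ₗ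
      (Submodule.Quotient.restrictScalarsEquiv A (kerIdeal b φ hφ)).symm.toLinearMap
  have hL : ∀ z, L (Ideal.Quotient.mk _ z) = φ.liftBaseChange A z := fun z => rfl
  have hbij : Function.Bijective L := by
    constructor
    · rw [injective_iff_map_eq_zero]
      intro q hq
      obtain ⟨z, rfl⟩ := Ideal.Quotient.mk_surjective q
      exact Ideal.Quotient.eq_zero_iff_mem.2 ((hL z).symm.trans hq)
    · intro v
      obtain ⟨z, hz⟩ := surjective_liftBaseChange b φ hφ v
      exact ⟨Ideal.Quotient.mk _ z, (hL z).trans hz⟩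
  refine ⟨(Pi.basisFun A (Fin d)).map (LinearEquiv.ofBijective L hbij).symm, fun j => ?_⟩
  rw [Module.Basis.map_apply, LinearEquiv.symm_apply_eq, LinearEquiv.ofBijective_apply]
  show _ = φ.liftBaseChange A (1 ⊗ₜ b j)
  rw [LinearMap.liftBaseChange_tmul, one_smul, hφ.1]
  simp [Pi.basisFun_apply]

theorem repr_toQuot (e : Module.Basis (Fin d) A (Quot' b φ hφ)) (he : ∀ j, e j = toQuot b φ hφ (b j)) (β : B) :
    e.equivFun (toQuot b φ hφ β) = φ β := by
  apply e.equivFun.symm.injective
  rw [LinearEquiv.symm_apply_apply, Module.Basis.equivFun_symm_apply]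
  simp only [he]
  show Ideal.Quotient.mk _ ((1 : A) ⊗ₜ β) = ∑ i, φ β i • Ideal.Quotient.mk _ ((1 : A) ⊗ₜ b i)
  rw [← sub_eq_zero]
  have : ∀ i, φ β i • Ideal.Quotient.mk (kerIdeal b φ hφ) ((1 : A) ⊗ₜ b i) =
      Ideal.Quotient.mk _ ((φ β i) ⊗ₜ b i) := fun i => by
    show Ideal.Quotient.mk _ (φ β i • ((1 : A) ⊗ₜ b i)) = _
    rw [TensorProduct.smul_tmul', smul_eq_mul, mul_one]
  simp only [this, ← map_sum, ← map_sub]
  rw [Ideal.Quotient.eq_zero_iff_mem]
  show φ.liftBaseChange A _ = 0
  rw [map_sub, map_sum]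
  funext l
  simp only [LinearMap.liftBaseChange_tmul, hφ.1, one_smul, Pi.sub_apply, Finset.sum_apply, Pi.smul_apply,
    smul_eq_mul, Pi.zero_apply]
  rw [Finset.sum_eq_single l]
  · simp
  · intro j _ hj
    simp [Pi.single_eq_of_ne (Ne.symm hj)]
  · simp

end quot

/-- The universal algebra. -/
abbrev QuotUniv : Type u := Quot' b (univ (R := R) b) (isCoord_univ b)

/-- An algebra with basis the images of `b` is the base change of the universal one along a unique point. -/
theorem exists_hom {Q : Type u} [CommRing Q] [Algebra R Q] [Algebra A Q] [IsScalarTower R A Q]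
    (ψ : B →ₐ[R] Q) (e : Module.Basis (Fin d) A Q) (he : ∀ j, e j = ψ (b j)) :
    ∃ (χ : Ring' (R := R) b →ₐ[R] A) (h : QuotUniv (R := R) b →+* Q),
      (∀ β, h (toQuot b _ (isCoord_univ b) β) = ψ β) ∧
      ∀ c, h (algebraMap _ _ c) = algebraMap A Q (χ c) := by
  obtain ⟨χ, hχ⟩ := exists_point b _ (isCoord_of_basis b ψ e he)
  let t : (Ring' (R := R) b) ⊗[R] B →ₐ[R] Q :=
    Algebra.TensorProduct.lift ((IsScalarTower.toAlgHom R A Q).comp χ) ψ fun _ _ => Commute.all _ _
  have ht : ∀ z, t z = ∑ i, χ ((univ b).liftBaseChange _ z i) • e i := by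
    intro z
    induction z with
    | zero => simp
    | tmul c β =>
      simp only [t, Algebra.TensorProduct.lift_tmul, LinearMap.liftBaseChange_tmul, Pi.smul_apply, smul_eq_mul,
        map_mul, hχ]
      show algebraMap A Q (χ c) * ψ β = _
      conv_lhs => rw [← e.sum_equivFun (ψ β)]
      rw [Finset.mul_sum]
      refine Finset.sum_congr rfl fun i _ => ?_
      rw [← Algebra.smul_def, smul_smul]
      rfl
    | add z w hz hw => simp [hz, hw, Finset.sum_add_distrib, add_smul]
  refine ⟨χ, Ideal.Quotient.lift _ t.toRingHom fun z hz => ?_, fun β => ?_, fun c => ?_⟩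
  · show t z = 0
    rw [ht]
    have hz' : (univ b).liftBaseChange _ z = 0 := hz
    simp [hz']
  · show t (1 ⊗ₜ β) = ψ β
    simp [t]
  · show t (c ⊗ₜ 1) = algebraMap A Q (χ c)
    simp [t]

/-- A square of algebras carrying a basis to a basis is cocartesian. -/
theorem isPushout_of_basis {C A Qc Q : Type u} [CommRing C] [CommRing A] [CommRing Qc] [CommRing Q]
    [Algebra C Qc] [Algebra A Q] (χ : C →+* A) (h : Qc →+* Q)
    (hc : ∀ c, h (algebraMap C Qc c) = algebraMap A Q (χ c)) {d : ℕ}
    (eC : Module.Basis (Fin d) C Qc) (e : Module.Basis (Fin d) A Q) (he : ∀ j, h (eC j) = e j) :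
    IsPushout (CommRingCat.ofHom χ) (CommRingCat.ofHom (algebraMap C Qc))
      (CommRingCat.ofHom (algebraMap A Q)) (CommRingCat.ofHom h) := by
  letI : Algebra C A := χ.toAlgebra
  letI : Algebra Qc Q := h.toAlgebra
  letI : Algebra C Q := ((algebraMap A Q).comp χ).toAlgebra
  haveI : IsScalarTower C A Q := IsScalarTower.of_algebraMap_eq' rfl
  haveI : IsScalarTower C Qc Q := IsScalarTower.of_algebraMap_eq fun c => (hc c).symm
  refine CommRingCat.isPushout_iff_isPushout.2 ⟨?_⟩
  let E : A ⊗[C] Qc ≃ₗ[A] Q := (Algebra.TensorProduct.basis A eC).equiv e (Equiv.refl _)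
  have hE : ∀ q : Qc, E (1 ⊗ₜ q) = h q := by
    have : ((E.toLinearMap.restrictScalars C) ∘ₗ (TensorProduct.mk C A Qc 1)) =
        (IsScalarTower.toAlgHom C Qc Q).toLinearMap := eC.ext fun j => by
      show E (1 ⊗ₜ eC j) = h (eC j)
      rw [← Algebra.TensorProduct.basis_apply (A := A) eC j, Module.Basis.equiv_apply, he]
      rfl
    exact fun q => LinearMap.congr_fun this q
  exact IsBaseChange.of_equiv E fun q => hE q

end

end Groth.Agent.HilbDLib.Chart
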