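import Mathlib

/-!
# When finitely many elements form a basis of a locally free module of the same rank
-/

set_option autoImplicit false
set_option linter.style.haveILetI false

universe u

open TensorProduct

namespace Groth.Agent.HilbDLib.Chart

noncomputable section

variable {A : Type u} [CommRing A] {Q : Type u} [AddCommGroup Q] [Module A Q] [Module.Finite A Q] {d : ℕ}

section

variable [Module.Projective A Q]

/-- A spanning family of the size of the rank is a basis. -/
theorem exists_basis_of_span (hd : ∀ p, Module.rankAtStalk (R := A) Q p = d) (v : Fin d → Q)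
    (hv : Submodule.span A (Set.range v) = ⊤) : ∃ e : Module.Basis (Fin d) A Q, ∀ j, e j = v j := by
  let g : (Fin d → A) →ₗ[A] Q := Fintype.linearCombination A v
  have hg : Function.Surjective g := by
    rw [← LinearMap.range_eq_top, Fintype.range_linearCombination, hv]
  obtain ⟨s, hs⟩ := Module.projective_lifting_property g LinearMap.id hg
  have hs' : ∀ q, g (s q) = q := fun q => LinearMap.congr_fun hs q
  let π : (Fin d → A) →ₗ[A] LinearMap.ker g :=
    (LinearMap.id - s ∘ₗ g).codRestrict _ fun x => by simp [hs']
  have hπ : Function.Surjective π := fun k => ⟨k.1, Subtype.ext (by simp [π])⟩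
  haveI : Module.Finite A (LinearMap.ker g) := Module.Finite.of_surjective π hπ
  haveI : Module.Projective A (LinearMap.ker g) :=
    Module.Projective.of_split (LinearMap.ker g).subtype π (LinearMap.ext fun k => Subtype.ext (by simp [π]))
  let e : (Fin d → A) ≃ₗ[A] LinearMap.ker g × Q :=
    { π.prod g with
      invFun := fun kq => kq.1.1 + s kq.2
      left_inv := fun x => by simp [π]
      right_inv := fun kq => by
        obtain ⟨⟨k, hk⟩, q⟩ := kq
        have hk' : g k = 0 := hk
        ext <;> simp [π, hs', hk'] }
  have hK : Subsingleton (LinearMap.ker g) := by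
    rw [← Module.rankAtStalk_eq_zero_iff_subsingleton (R := A)]
    funext p
    rcases subsingleton_or_nontrivial A with hA | hA
    · exact absurd (Subsingleton.elim (0 : A) 1) (fun h => p.2.ne_top (Ideal.eq_top_iff_one _ |>.2 (h ▸ p.asIdeal.zero_mem)))
    have := congrFun (Module.rankAtStalk_eq_of_equiv e) p
    rw [Module.rankAtStalk_eq_finrank_of_free, Module.rankAtStalk_prod, Pi.add_apply, hd p] at this
    simp only [Pi.natCast_apply, Nat.cast_id, Module.finrank_fintype_fun_eq_card, Fintype.card_fin] at this
    show _ = 0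
    omega
  have hinj : Function.Injective g := LinearMap.ker_eq_bot.1 (Submodule.subsingleton_iff_eq_bot.1 hK)
  refine ⟨(Pi.basisFun A (Fin d)).map (LinearEquiv.ofBijective g ⟨hinj, hg⟩), fun j => ?_⟩
  simp [g, Fintype.linearCombination_apply_single]

end

/-- If a family spans after a base change then it spans near the images of all primes upstairs. -/
theorem exists_span_nhd (v : Fin d → Q) {A' : Type u} [CommRing A'] [Algebra A A']
    {Q' : Type u} [AddCommGroup Q'] [Module A Q'] [Module A' Q'] [IsScalarTower A A' Q'] (h : Q →ₗ[A] Q')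
    (hQ' : IsBaseChange A' h) (hv : Submodule.span A' (Set.range (h ∘ v)) = ⊤) (p' : PrimeSpectrum A') :
    ∃ U : TopologicalSpace.Opens (PrimeSpectrum A), p'.comap (algebraMap A A') ∈ U ∧
      ∀ p ∈ U, p ∉ Module.support A (Q ⧸ Submodule.span A (Set.range v)) := by
  let N := Submodule.span A (Set.range v)
  refine ⟨⟨(Module.support A (Q ⧸ N))ᶜ, Module.isClosed_support.isOpen_compl⟩, ?_, fun p hp => hp⟩
  intro hmem
  let p : PrimeSpectrum A := p'.comap (algebraMap A A')
  change p ∈ Module.support A (Q ⧸ N) at hmem
  -- the base change of the quotient vanishes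
  have hsub : Subsingleton (A' ⊗[A] (Q ⧸ N)) := by
    have hsurj : Function.Surjective ((N.mkQ).lTensor A') := LinearMap.lTensor_surjective _ N.mkQ_surjective
    have hzero : ∀ z : A' ⊗[A] Q, (N.mkQ).lTensor A' z = 0 := by
      intro z
      have hz : hQ'.equiv z ∈ Submodule.span A' (Set.range (h ∘ v)) := hv ▸ trivial
      rw [Submodule.mem_span_range_iff_exists_fun] at hz
      obtain ⟨c, hc⟩ := hz
      have : z = ∑ i, c i ⊗ₜ v i := hQ'.equiv.injective (by
        rw [map_sum, ← hc]
        simp [IsBaseChange.equiv_tmul])
      rw [this, map_sum]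
      refine Finset.sum_eq_zero fun i _ => ?_
      rw [LinearMap.lTensor_tmul]
      have : N.mkQ (v i) = 0 := (Submodule.Quotient.mk_eq_zero N).2 (Submodule.subset_span ⟨i, rfl⟩)
      rw [this, TensorProduct.tmul_zero]
    refine subsingleton_of_forall_eq 0 fun w => ?_
    obtain ⟨z, rfl⟩ := hsurj w
    exact hzero z
  rw [Module.mem_support_iff_nontrivial_residueField_tensorProduct] at hmem
  refine not_nontrivial_iff_subsingleton.2 ?_ hmem
  let K := p.asIdeal.ResidueField
  let K' := p'.asIdeal.ResidueField
  letI : Algebra K K' := (Ideal.ResidueField.map p.asIdeal p'.asIdeal (algebraMap A A') rfl).toAlgebra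
  haveI : IsScalarTower A K K' := IsScalarTower.of_algebraMap_eq fun a => by
    rw [RingHom.algebraMap_toAlgebra, Ideal.ResidueField.map_algebraMap, IsScalarTower.algebraMap_apply A A' K']
  have h1 : Subsingleton (K' ⊗[A'] (A' ⊗[A] (Q ⧸ N))) := inferInstance
  have h2 : Subsingleton (K' ⊗[A] (Q ⧸ N)) :=
    (AlgebraTensorModule.cancelBaseChange A A' K' K' (Q ⧸ N)).symm.subsingleton
  have h3 : Subsingleton (K' ⊗[K] (K ⊗[A] (Q ⧸ N))) :=
    (AlgebraTensorModule.cancelBaseChange A K K' K' (Q ⧸ N)).subsingleton
  exact (Module.FaithfullyFlat.subsingleton_tensorProduct_iff_right K K').1 h3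

/-- A family spans if it spans at every prime. -/
theorem span_eq_top_of_support (v : Fin d → Q)
    (h : ∀ p, p ∉ Module.support A (Q ⧸ Submodule.span A (Set.range v))) :
    Submodule.span A (Set.range v) = ⊤ := by
  rw [← Submodule.Quotient.subsingleton_iff]
  exact (Module.support_eq_empty_iff (R := A)).1 (Set.eq_empty_iff_forall_notMem.2 h)

end

end Groth.Agent.HilbDLib.Chart
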