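import Groth.Agent.HilbDLib.ClosedSub
import Groth.Agent.HilbDLib.ChartAlg
import Groth.Agent.HilbDLib.ChartBasis

/-!
# The charts of the Hilbert functor of points
-/

set_option autoImplicit false
set_option linter.style.haveILetI false

universe u

open CategoryTheory CategoryTheory.Limits AlgebraicGeometry

namespace Groth.Agent.HilbDLib

noncomputable section

variable {X S : Scheme.{u}} (f : X ⟶ S) (d : ℕ)

/-- An index of a chart: an affine open of the base, one above it, and `d` sections on the latter. -/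
structure Idx where
  /-- The open of the base. -/
  V : S.Opens
  hV : IsAffineOpen V
  /-- The open of `X`. -/
  U : X.Opens
  hU : IsAffineOpen U
  le : U ≤ f ⁻¹ᵁ V
  /-- The prescribed basis. -/
  b : Fin d → Γ(X, U)

variable {f d}

namespace Idx

variable (i : Idx f d)

/-- The ring map of an index. -/
abbrev fR : Γ(S, i.V) ⟶ Γ(X, i.U) := f.appLE i.V i.U i.le

instance algebra : Algebra Γ(S, i.V) Γ(X, i.U) := i.fR.hom.toAlgebra

/-- The data of an affine family of finite subschemes of `U`. -/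
structure Dat (A : Type u) [CommRing A] where
  /-- The base point. -/
  tV : Γ(S, i.V) →+* A
  /-- The coordinate ring. -/
  Q : Type u
  [cr : CommRing Q]
  [alg : Algebra A Q]
  [fin : Module.Finite A Q]
  /-- The restriction of functions. -/
  ψ : Γ(X, i.U) →+* Q
  w : ψ.comp i.fR.hom = (algebraMap A Q).comp tV

attribute [instance] Dat.cr Dat.alg Dat.fin

variable {i} {A : Type u} [CommRing A] (D : i.Dat A)

/-- The base of a family. -/
abbrev Dat.ov : Over S := Over.mk (Spec.map (CommRingCat.ofHom D.tV) ≫ i.hV.fromSpec)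

/-- The embedding of a family. -/
def Dat.ι : Spec (CommRingCat.of D.Q) ⟶ PicF.XT f D.ov :=
  pullback.lift (Spec.map (CommRingCat.ofHom D.ψ) ≫ i.hU.fromSpec)
    (Spec.map (CommRingCat.ofHom (algebraMap A D.Q))) (by
      show _ = _ ≫ (Spec.map (CommRingCat.ofHom D.tV) ≫ i.hV.fromSpec)
      rw [Category.assoc, ← IsAffineOpen.SpecMap_appLE_fromSpec f i.hV i.hU i.le, ← Spec.map_comp_assoc,
        ← Spec.map_comp_assoc]
      exact congrArg (fun φ => Spec.map φ ≫ i.hV.fromSpec) (CommRingCat.hom_ext D.w))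

@[reassoc]
theorem Dat.ι_fst : D.ι ≫ pullback.fst f D.ov.hom = Spec.map (CommRingCat.ofHom D.ψ) ≫ i.hU.fromSpec :=
  pullback.lift_fst _ _ _

@[reassoc]
theorem Dat.ι_proj : D.ι ≫ PicF.XTproj f D.ov = Spec.map (CommRingCat.ofHom (algebraMap A D.Q)) :=
  pullback.lift_snd _ _ _

/-- The generation hypothesis of a family. -/
def Dat.Gen : Prop := Subring.closure (Set.range (algebraMap A D.Q) ∪ Set.range D.ψ) = ⊤

theorem Dat.gen_of_span (hspan : Submodule.span A (Set.range (D.ψ ∘ i.b)) = ⊤) : D.Gen := by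
  refine top_le_iff.1 fun q _ => ?_
  have hq : q ∈ Submodule.span A (Set.range (D.ψ ∘ i.b)) := hspan ▸ trivial
  rw [Submodule.mem_span_range_iff_exists_fun] at hq
  obtain ⟨c, rfl⟩ := hq
  refine Subring.sum_mem _ fun j _ => ?_
  rw [Algebra.smul_def]
  exact Subring.mul_mem _ (Subring.subset_closure (Or.inl ⟨c j, rfl⟩))
    (Subring.subset_closure (Or.inr ⟨i.b j, rfl⟩))

theorem Dat.mono_ι (hD : D.Gen) : Mono D.ι := by
  refine ⟨fun {W} a a' h => ?_⟩
  have h1 := congrArg (· ≫ PicF.XTproj f D.ov) h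
  have h2 := congrArg (· ≫ pullback.fst f D.ov.hom) h
  simp only [Category.assoc, D.ι_proj, D.ι_fst] at h1 h2
  rw [← Category.assoc a, ← Category.assoc a', cancel_mono] at h2
  refine ext_of_isAffine ?_
  let ra : D.Q →+* Γ(W, ⊤) := ((Scheme.ΓSpecIso (CommRingCat.of D.Q)).inv ≫ a.appTop).hom
  let ra' : D.Q →+* Γ(W, ⊤) := ((Scheme.ΓSpecIso (CommRingCat.of D.Q)).inv ≫ a'.appTop).hom
  have key : ∀ {P : CommRingCat.{u}} (φ : P ⟶ CommRingCat.of D.Q), a ≫ Spec.map φ = a' ≫ Spec.map φ →
      ∀ p, ra (φ.hom p) = ra' (φ.hom p) := by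
    intro P φ hφ p
    have e := congrArg (fun m => (Scheme.ΓSpecIso P).inv ≫ Scheme.Hom.appTop m) hφ
    simp only [Scheme.Hom.comp_appTop, ← Scheme.ΓSpecIso_inv_naturality_assoc] at e
    exact congrArg (fun m => m.hom p) e
  have hr : ra = ra' := RingHom.eq_of_eqOn_set_top fun q hq => by
    refine RingHom.eqOn_set_closure (s := Set.range (algebraMap A D.Q) ∪ Set.range D.ψ) ?_ ?_
    · rintro _ (⟨p, rfl⟩ | ⟨p, rfl⟩)
      · exact key _ h1 p
      · exact key _ h2 p
    · exact hD.symm ▸ trivial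
  rw [← cancel_epi (Scheme.ΓSpecIso (CommRingCat.of D.Q)).inv]
  exact CommRingCat.hom_ext hr

theorem Dat.isClosedImmersion_ι [IsSeparated f] (hD : D.Gen) : IsClosedImmersion D.ι := by
  rw [IsClosedImmersion.iff_isFinite_and_mono]
  refine ⟨?_, D.mono_ι hD⟩
  haveI : IsFinite (D.ι ≫ PicF.XTproj f D.ov) := by
    rw [D.ι_proj, IsFinite.SpecMap_iff]
    exact RingHom.finite_algebraMap.2 D.fin
  exact IsFinite.of_comp D.ι (PicF.XTproj f D.ov)

/-- The closed subscheme of a family. -/
abbrev Dat.ideal : (PicF.XT f D.ov).IdealSheafData := D.ι.ker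

/-- Families with the same base and comparable subschemes map to each other. -/
theorem Dat.exists_hom {D D' : i.Dat A} (e : D'.ov = D.ov) [IsClosedImmersion D.ι]
    (h : D.ι.ker ≤ (D'.ι ≫ PicF.XTmap f (eqToHom e)).ker) :
    ∃ θ : D.Q →+* D'.Q, θ.comp (algebraMap A D.Q) = algebraMap A D'.Q ∧ θ.comp D.ψ = D'.ψ := by
  obtain ⟨φ, hφ⟩ : ∃ φ, Spec.map φ = IsClosedImmersion.lift D.ι (D'.ι ≫ PicF.XTmap f (eqToHom e)) h :=
    ⟨_, Spec.map_preimage _⟩
  have hk := IsClosedImmersion.lift_fac D.ι (D'.ι ≫ PicF.XTmap f (eqToHom e)) h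
  rw [← hφ] at hk
  have h1 := congrArg (· ≫ PicF.XTproj f D.ov) hk
  have h2 := congrArg (· ≫ pullback.fst f D.ov.hom) hk
  have e1 : (eqToHom e).left = 𝟙 (Spec (CommRingCat.of A)) := by
    rw [Over.eqToHom_left]; rfl
  simp only [Category.assoc, D.ι_proj, D.ι_fst, PicF.XTmap, pullback.lift_fst, pullback.lift_snd,
    Category.comp_id] at h1 h2
  rw [D'.ι_fst] at h2
  rw [e1, show (PicF.XTproj f D'.ov ≫ 𝟙 (Spec (CommRingCat.of A))) = PicF.XTproj f D'.ov from Category.comp_id _,
    D'.ι_proj] at h1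
  rw [← Category.assoc, cancel_mono, ← Spec.map_comp] at h2
  rw [← Spec.map_comp] at h1
  exact ⟨φ.hom, congrArg CommRingCat.Hom.hom (Spec.map_injective h1),
    congrArg CommRingCat.Hom.hom (Spec.map_injective h2)⟩

theorem Dat.exists_hom' {D D' : i.Dat A} (e : D.tV = D'.tV) [IsClosedImmersion D.ι]
    (h : HEq D.ideal D'.ideal) :
    ∃ θ : D.Q →+* D'.Q, θ.comp (algebraMap A D.Q) = algebraMap A D'.Q ∧ θ.comp D.ψ = D'.ψ := by
  have e' : D'.ov = D.ov := by
    show Over.mk _ = Over.mk _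
    rw [e]
  refine Dat.exists_hom e' (le_of_eq ?_)
  obtain ⟨tV, Q, ψ, w⟩ := D
  obtain ⟨tV', Q', ψ', w'⟩ := D'
  subst e
  have hid : PicF.XTmap f (eqToHom e') = 𝟙 _ := by
    rw [eqToHom_refl]
    apply pullback.hom_ext <;> simp [PicF.XTmap, pullback.map] <;> exact Category.id_comp _
  rw [hid, Category.comp_id]
  exact eq_of_heq h

/-- The morphism of bases defined by a ring map. -/
def Dat.homOv {A' : Type u} [CommRing A'] {D' : i.Dat A'} (α : A →+* A') (hα : D'.tV = α.comp D.tV) :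
    D'.ov ⟶ D.ov :=
  Over.homMk (Spec.map (CommRingCat.ofHom α)) (by
    show _ ≫ _ ≫ _ = _
    rw [← Spec.map_comp_assoc, ← CommRingCat.ofHom_comp, ← hα]
    rfl)

/-- A cocartesian square of coordinate rings gives a cartesian square of embeddings. -/
theorem Dat.isPullback_ι {A' : Type u} [CommRing A'] {D' : i.Dat A'} (α : A →+* A')
    (hα : D'.tV = α.comp D.tV) (θ : D.Q →+* D'.Q) (hψ : θ.comp D.ψ = D'.ψ)
    (hp : IsPushout (CommRingCat.ofHom α) (CommRingCat.ofHom (algebraMap A D.Q))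
      (CommRingCat.ofHom (algebraMap A' D'.Q)) (CommRingCat.ofHom θ)) :
    IsPullback D'.ι (Spec.map (CommRingCat.ofHom θ)) (PicF.XTmap f (D.homOv α hα)) D.ι := by
  have hsq : D'.ι ≫ PicF.XTmap f (D.homOv α hα) = Spec.map (CommRingCat.ofHom θ) ≫ D.ι := by
    apply pullback.hom_ext
    · simp only [Category.assoc, PicF.XTmap, pullback.lift_fst, Category.comp_id, D.ι_fst, D'.ι_fst]
      rw [← Spec.map_comp_assoc, ← CommRingCat.ofHom_comp, hψ]
    · simp only [Category.assoc, PicF.XTmap, pullback.lift_snd, D.ι_proj, D'.ι_proj_assoc]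
      exact (congrArg Spec.map hp.w).trans (Spec.map_comp _ _) |>.symm |> fun h => by
        simpa only [Dat.homOv, Over.homMk_left, Spec.map_comp] using h.symm
  refine (IsPullback.of_bot ?_ hsq.symm (isPullback_XTmap f (D.homOv α hα))).flip
  rw [D.ι_proj, D'.ι_proj]
  exact (isPullback_SpecMap_of_isPushout _ _ _ _ hp).flip

/-- A cocartesian square of coordinate rings gives the pulled back subscheme. -/
theorem Dat.pull_eq [IsClosedImmersion D.ι] {A' : Type u} [CommRing A'] {D' : i.Dat A'} (α : A →+* A')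
    (hα : D'.tV = α.comp D.tV) (θ : D.Q →+* D'.Q) (hψ : θ.comp D.ψ = D'.ψ)
    (hp : IsPushout (CommRingCat.ofHom α) (CommRingCat.ofHom (algebraMap A D.Q))
      (CommRingCat.ofHom (algebraMap A' D'.Q)) (CommRingCat.ofHom θ)) :
    HilbD.pull f (D.homOv α hα) D.ideal = D'.ideal :=
  pull_eq_ker_of_isPullback f _ (D.isPullback_ι α hα θ hψ hp)

/-- The base change of a family. -/
def Dat.baseChange {A' : Type u} [CommRing A'] [Algebra A A'] : i.Dat A' where
  tV := (algebraMap A A').comp D.tV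
  Q := TensorProduct A A' D.Q
  ψ := (Algebra.TensorProduct.includeRight (R := A) (A := A') (B := D.Q)).toRingHom.comp D.ψ
  w := by
    refine RingHom.ext fun r => ?_
    have h := RingHom.congr_fun D.w r
    simp only [RingHom.comp_apply] at h ⊢
    show (1 : A') ⊗ₜ[A] D.ψ (i.fR.hom r) = (algebraMap A A' (D.tV r)) ⊗ₜ[A] (1 : D.Q)
    rw [h, Algebra.algebraMap_eq_smul_one, Algebra.algebraMap_eq_smul_one, TensorProduct.smul_tmul]

theorem Dat.pull_baseChange [IsClosedImmersion D.ι] (A' : Type u) [CommRing A'] [Algebra A A'] :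
    HilbD.pull f (D.homOv (D' := D.baseChange (A' := A')) (algebraMap A A') rfl) D.ideal =
      (D.baseChange (A' := A')).ideal :=
  D.pull_eq (algebraMap A A') rfl Algebra.TensorProduct.includeRight.toRingHom rfl
    (CommRingCat.isPushout_tensorProduct A A' D.Q)

theorem Dat.isClosedImmersion_baseChange [IsClosedImmersion D.ι] (A' : Type u) [CommRing A'] [Algebra A A'] :
    IsClosedImmersion (D.baseChange (A' := A')).ι :=
  MorphismProperty.of_isPullback (P := @IsClosedImmersion)
    (D.isPullback_ι (algebraMap A A') rfl Algebra.TensorProduct.includeRight.toRingHom rfl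
      (CommRingCat.isPushout_tensorProduct A A' D.Q)).flip inferInstance

/-! ## The chart -/

variable (i)

/-- The universal family. -/
def univDat : i.Dat (Chart.Ring' (R := Γ(S, i.V)) i.b) where
  tV := algebraMap Γ(S, i.V) _
  Q := Chart.QuotUniv (R := Γ(S, i.V)) i.b
  fin := by
    obtain ⟨e, -⟩ := Chart.exists_basis i.b _ (Chart.isCoord_univ (R := Γ(S, i.V)) i.b)
    exact Module.Finite.of_basis e
  ψ := (Chart.toQuot i.b _ (Chart.isCoord_univ (R := Γ(S, i.V)) i.b)).toRingHom
  w := RingHom.ext fun r => by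
    simp only [RingHom.comp_apply]
    exact ((Chart.toQuot i.b _ (Chart.isCoord_univ (R := Γ(S, i.V)) i.b)).commutes r).trans
      (IsScalarTower.algebraMap_apply _ _ _ r)

theorem gen_univDat : (i.univDat).Gen := by
  obtain ⟨e, he⟩ := Chart.exists_basis i.b _ (Chart.isCoord_univ (R := Γ(S, i.V)) i.b)
  refine Dat.gen_of_span _ (top_le_iff.1 ?_)
  refine le_trans (le_of_eq e.span_eq.symm) (Submodule.span_mono ?_)
  rintro _ ⟨j, rfl⟩
  exact ⟨j, (he j).symm⟩

/-- The chart. -/
abbrev P : Over S := (i.univDat).ov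

/-- The universal subscheme of the chart. -/
abbrev Z : (PicF.XT f i.P).IdealSheafData := (i.univDat).ideal

/-- The family is in the chart. -/
def IsIn (T : Over S) (I : (PicF.XT f T).IdealSheafData) : Prop := ∃ q : T ⟶ i.P, HilbD.pull f q i.Z = I

variable {i}

/-- A family with basis the images of the prescribed sections is in the chart. -/
theorem Dat.isIn [IsSeparated f] (e : Module.Basis (Fin d) A D.Q) (he : ∀ j, e j = D.ψ (i.b j)) :
    i.IsIn D.ov D.ideal := by
  letI : Algebra Γ(S, i.V) A := D.tV.toAlgebra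
  letI : Algebra Γ(S, i.V) D.Q := ((algebraMap A D.Q).comp D.tV).toAlgebra
  haveI : IsScalarTower Γ(S, i.V) A D.Q := IsScalarTower.of_algebraMap_eq' rfl
  let ψ' : Γ(X, i.U) →ₐ[Γ(S, i.V)] D.Q := { D.ψ with commutes' := fun r => RingHom.congr_fun D.w r }
  obtain ⟨χ, h, hψ, hc⟩ := Chart.exists_hom i.b ψ' e he
  obtain ⟨eC, heC⟩ := Chart.exists_basis i.b _ (Chart.isCoord_univ (R := Γ(S, i.V)) i.b)
  refine ⟨(i.univDat).homOv χ.toRingHom (χ.comp_algebraMap.symm), ?_⟩
  haveI := (i.univDat).isClosedImmersion_ι i.gen_univDat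
  exact (i.univDat).pull_eq χ.toRingHom _ h (RingHom.ext hψ)
    (Chart.isPushout_of_basis χ.toRingHom h hc eC e fun j => by rw [heC, hψ, he]; rfl)

end Idx

end

end Groth.Agent.HilbDLib
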