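import Groth.Agent.HilbDLib.Locus

/-!
# The charts of the Hilbert functor of points are representable open subfunctors
-/

set_option autoImplicit false
set_option linter.style.haveILetI false

universe u

open CategoryTheory CategoryTheory.Limits AlgebraicGeometry TensorProduct

namespace Groth.Agent.HilbDLib

noncomputable section

variable {X S : Scheme.{u}} {f : X ⟶ S} {d : ℕ}

@[reassoc]
theorem XTmap_fst' {T T' : Over S} (g : T' ⟶ T) :
    PicF.XTmap f g ≫ pullback.fst f T.hom = pullback.fst f T'.hom :=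
  (pullback.lift_fst _ _ _).trans (Category.comp_id _)

@[reassoc]
theorem XTmap_snd' {T T' : Over S} (g : T' ⟶ T) :
    PicF.XTmap f g ≫ PicF.XTproj f T = PicF.XTproj f T' ≫ g.left :=
  pullback.lift_snd _ _ _

namespace Idx

variable {i : Idx f d} {A : Type u} [CommRing A]

theorem Dat.hom_eq_id (D : i.Dat A) [IsClosedImmersion D.ι] (σ : D.Q →+* D.Q)
    (h1 : σ.comp (algebraMap A D.Q) = algebraMap A D.Q) (h2 : σ.comp D.ψ = D.ψ) : σ = RingHom.id _ := by
  have h : Spec.map (CommRingCat.ofHom σ) ≫ D.ι = 𝟙 _ ≫ D.ι := by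
    apply pullback.hom_ext
    · rw [Category.id_comp, Category.assoc, D.ι_fst, ← Spec.map_comp_assoc, ← CommRingCat.ofHom_comp, h2]
    · rw [Category.id_comp, Category.assoc]
      refine (congrArg (Spec.map (CommRingCat.ofHom σ) ≫ ·) D.ι_proj).trans (Eq.trans ?_ D.ι_proj.symm)
      rw [← Spec.map_comp, ← CommRingCat.ofHom_comp, h1]
  rw [cancel_mono, ← Spec.map_id] at h
  exact congrArg CommRingCat.Hom.hom (Spec.map_injective h)

theorem Dat.exists_hom_surjective {D D' : i.Dat A} (e : D.tV = D'.tV) [IsClosedImmersion D.ι]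
    [IsClosedImmersion D'.ι] (h : HEq D.ideal D'.ideal) :
    ∃ σ : D.Q →+* D'.Q, Function.Surjective σ ∧ σ.comp (algebraMap A D.Q) = algebraMap A D'.Q ∧
      σ.comp D.ψ = D'.ψ := by
  obtain ⟨σ, h1, h2⟩ := Dat.exists_hom' e h
  obtain ⟨σ', h1', h2'⟩ := Dat.exists_hom' e.symm h.symm
  refine ⟨σ, fun q => ⟨σ' q, ?_⟩, h1, h2⟩
  exact RingHom.congr_fun (D'.hom_eq_id (σ.comp σ') (by rw [RingHom.comp_assoc, h1', h1])
    (by rw [RingHom.comp_assoc, h2', h2])) q

theorem exists_univ_coord : ∃ e : Module.Basis (Fin d) (Chart.Ring' (R := Γ(S, i.V)) i.b) i.univDat.Q,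
    (∀ j, e j = i.univDat.ψ (i.b j)) ∧
      ∀ β, i.univDat.ψ β = ∑ l, Chart.univ (R := Γ(S, i.V)) i.b β l • i.univDat.ψ (i.b l) := by
  obtain ⟨e, he⟩ := Chart.exists_basis i.b _ (Chart.isCoord_univ (R := Γ(S, i.V)) i.b)
  refine ⟨e, he, fun β => ?_⟩
  show Chart.toQuot i.b _ (Chart.isCoord_univ (R := Γ(S, i.V)) i.b) β = _
  conv_lhs => rw [← e.sum_equivFun (Chart.toQuot i.b _ (Chart.isCoord_univ (R := Γ(S, i.V)) i.b) β),
    Chart.repr_toQuot i.b _ _ e he]
  exact Finset.sum_congr rfl fun l _ => by rw [he]; rfl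

/-- The family of a point of the chart. -/
theorem exists_point_dat [IsSeparated f] (tV : Γ(S, i.V) →+* A)
    (q : Over.mk (Spec.map (CommRingCat.ofHom tV) ≫ i.hV.fromSpec) ⟶ i.P) :
    ∃ (χ : Chart.Ring' (R := Γ(S, i.V)) i.b →+* A) (D : i.Dat A) (e : Module.Basis (Fin d) A D.Q),
      Spec.map (CommRingCat.ofHom χ) = q.left ∧ χ.comp i.univDat.tV = tV ∧ D.tV = tV ∧
        IsClosedImmersion D.ι ∧ HEq D.ideal (HilbD.pull f q i.Z) ∧ (∀ j, e j = D.ψ (i.b j)) ∧
        ∀ β, D.ψ β = ∑ l, χ (Chart.univ (R := Γ(S, i.V)) i.b β l) • D.ψ (i.b l) := by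
  obtain ⟨χ, hχ, ht⟩ := exists_point q
  have htV : χ.comp i.univDat.tV = tV := by
    rw [cancel_mono] at ht
    exact (congrArg CommRingCat.Hom.hom (Spec.map_injective ht)).symm
  subst htV
  letI : Algebra (Chart.Ring' (R := Γ(S, i.V)) i.b) A := χ.toAlgebra
  haveI := i.univDat.isClosedImmersion_ι i.gen_univDat
  obtain ⟨eC, heC, hcoord⟩ := exists_univ_coord (i := i)
  have hq : q = i.univDat.homOv (D' := i.univDat.baseChange (A' := A))
      (algebraMap (Chart.Ring' (R := Γ(S, i.V)) i.b) A) rfl := Over.OverMorphism.ext hχ.symm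
  refine ⟨χ, i.univDat.baseChange (A' := A), Algebra.TensorProduct.basis A eC, hχ, rfl, rfl,
    i.univDat.isClosedImmersion_baseChange A, heq_of_eq ?_, fun j => ?_, fun β => ?_⟩
  · rw [hq]
    exact (i.univDat.pull_baseChange A).symm
  · exact (Algebra.TensorProduct.basis_apply eC j).trans (congrArg (fun z => (1 : A) ⊗ₜ z) (heC j))
  · show (1 : A) ⊗ₜ[Chart.Ring' (R := Γ(S, i.V)) i.b] i.univDat.ψ β = _
    conv_lhs => rw [hcoord β, TensorProduct.tmul_sum]
    refine Finset.sum_congr rfl fun l _ => ?_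
    refine ((TensorProduct.mk (Chart.Ring' (R := Γ(S, i.V)) i.b) A i.univDat.Q 1).map_smul _ _).trans ?_
    exact (algebraMap_smul A (Chart.univ (R := Γ(S, i.V)) i.b β l) _).symm

theorem hom_ext_affine [IsSeparated f] {t : Spec (CommRingCat.of A) ⟶ S} (q q' : Over.mk t ⟶ i.P)
    (h : HilbD.pull f q i.Z = HilbD.pull f q' i.Z) : q = q' := by
  obtain ⟨χ₀, -, ht⟩ := exists_point q
  subst ht
  obtain ⟨χ, D, e, hχ, htV, hD, hc, hI, he, hψ⟩ := exists_point_dat (χ₀.comp i.univDat.tV) q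
  obtain ⟨χ', D', e', hχ', htV', hD', hc', hI', he', hψ'⟩ := exists_point_dat (χ₀.comp i.univDat.tV) q'
  obtain ⟨σ, -, hσ1, hσ2⟩ := Dat.exists_hom_surjective (hD.trans hD'.symm)
    (hI.trans ((heq_of_eq h).trans hI'.symm))
  refine Over.OverMorphism.ext ?_
  rw [← hχ, ← hχ']
  congr 1
  congr 1
  have hx : ∀ β l, χ (Chart.univ (R := Γ(S, i.V)) i.b β l) = χ' (Chart.univ (R := Γ(S, i.V)) i.b β l) := by
    intro β
    have h1 : D'.ψ β = ∑ l, χ (Chart.univ (R := Γ(S, i.V)) i.b β l) • D'.ψ (i.b l) := by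
      rw [← hσ2]
      simp only [RingHom.comp_apply]
      conv_lhs => rw [hψ β, map_sum]
      refine Finset.sum_congr rfl fun l _ => ?_
      rw [Algebra.smul_def, map_mul, ← RingHom.comp_apply σ, hσ1, Algebra.smul_def]
    have h2 := h1.symm.trans (hψ' β)
    simp only [← he'] at h2
    exact fun l => by simpa [e'.repr_self, Finsupp.single_apply] using congrArg (fun z => e'.repr z l) h2
  refine Ideal.Quotient.ringHom_ext (MvPolynomial.ringHom_ext (fun r => ?_) fun p => ?_)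
  · exact RingHom.congr_fun (htV.trans htV'.symm) r
  · exact hx p.1 p.2

variable (i)

theorem hom_ext [IsSeparated f] {T : Over S} (q q' : T ⟶ i.P)
    (h : HilbD.pull f q i.Z = HilbD.pull f q' i.Z) : q = q' := by
  refine Over.OverMorphism.ext (Scheme.Cover.hom_ext T.left.affineCover _ _ fun j => ?_)
  let g : Over.mk (T.left.affineCover.f j ≫ T.hom) ⟶ T := Over.homMk (T.left.affineCover.f j) rfl
  exact congrArg CommaMorphism.left (hom_ext_affine (g ≫ q) (g ≫ q') (by rw [← pull_pull, h, pull_pull]))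

theorem IsIn.pull {T T' : Over S} {I : (PicF.XT f T).IdealSheafData} (h : i.IsIn T I) (g : T' ⟶ T) :
    i.IsIn T' (HilbD.pull f g I) := by
  obtain ⟨q, rfl⟩ := h
  exact ⟨g ≫ q, (pull_pull f g q i.Z).symm⟩

theorem supp_of_isIn [IsSeparated f] {T : Over S} {I : (PicF.XT f T).IdealSheafData} (h : i.IsIn T I) :
    i.Supp T I := by
  obtain ⟨q, rfl⟩ := h
  intro z
  obtain ⟨w, hw⟩ := support_pull q i.Z z
  haveI := i.univDat.isClosedImmersion_ι i.gen_univDat
  have h1 := Dat.supp_ideal i.univDat w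
  rw [Scheme.Hom.comp_apply, hw, ← Scheme.Hom.comp_apply, XTmap_fst'] at h1
  rwa [Scheme.Hom.comp_apply]

/-- An open subscheme over the base. -/
abbrev opn (T : Over S) (W : T.left.Opens) : Over S := Over.mk (W.ι ≫ T.hom)

/-- The inclusion of an open subscheme. -/
abbrev opnι (T : Over S) (W : T.left.Opens) : opn T W ⟶ T := Over.homMk W.ι rfl

/-- The locus of the chart. -/
def locus {T : Over S} (I : (PicF.XT f T).IdealSheafData) : T.left.Opens :=
  ⨆ W : {W : T.left.Opens // i.IsIn (opn T W) (HilbD.pull f (opnι T W) I)}, W.1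

theorem le_locus {T : Over S} {I : (PicF.XT f T).IdealSheafData} {T' : Over S} (g : T' ⟶ T)
    [IsOpenImmersion g.left] (h : i.IsIn T' (HilbD.pull f g I)) : g.left.opensRange ≤ i.locus I := by
  let l : (g.left.opensRange : Scheme) ⟶ T'.left :=
    IsOpenImmersion.lift g.left g.left.opensRange.ι (by rw [Scheme.Opens.range_ι]; rfl)
  have hl : l ≫ g.left = g.left.opensRange.ι := IsOpenImmersion.lift_fac _ _ _
  let m : opn T g.left.opensRange ⟶ T' := Over.homMk l (by
    show l ≫ T'.hom = g.left.opensRange.ι ≫ T.hom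
    rw [← hl, Category.assoc, Over.w g])
  refine le_iSup_of_le ⟨g.left.opensRange, ?_⟩ le_rfl
  have hm : m ≫ g = opnι T g.left.opensRange := Over.OverMorphism.ext hl
  rw [← hm, ← pull_pull]
  exact h.pull i m

/-- The locus of the chart contains the image of every family in the chart. -/
theorem mem_locus_of_isIn [IsSeparated f] {T : Over S} (I : HilbD.Obj f d T) {T' : Over S} (g : T' ⟶ T)
    (h : i.IsIn T' (HilbD.pull f g I.1)) (p' : T'.left) : g.left p' ∈ i.locus I.1 := by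
  obtain ⟨q, hq⟩ := id h
  obtain ⟨hfin, -, -⟩ := I.2.1
  let p := g.left p'
  let bad : Set I.1.subscheme := {w | (I.1.subschemeι ≫ pullback.fst f T.hom) w ∉ i.U}
  have hbad : IsClosed bad :=
    (i.U.2.preimage (I.1.subschemeι ≫ pullback.fst f T.hom).continuous).isClosed_compl
  let E : Set T.left := (I.1.subschemeι ≫ PicF.XTproj f T) '' bad
  have hE : IsClosed E := (I.1.subschemeι ≫ PicF.XTproj f T).isClosedMap bad hbad
  have hpE : p ∉ E := by
    rintro ⟨w, hw, hwp⟩
    obtain ⟨z, hz⟩ := exists_over_support g I.1 w p' hwp.symm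
    refine hw ?_
    rw [Scheme.Hom.comp_apply, ← hz, ← Scheme.Hom.comp_apply, XTmap_fst']
    have := supp_of_isIn i h z
    rwa [Scheme.Hom.comp_apply] at this
  have hpV : T.hom p ∈ i.V := by
    have : T.hom p = i.P.hom (q.left p') := by
      rw [← Scheme.Hom.comp_apply, ← Scheme.Hom.comp_apply, Over.w q, Over.w g]
    rw [this]
    show i.hV.fromSpec _ ∈ (i.V : Set S)
    rw [← i.hV.range_fromSpec]
    exact ⟨_, rfl⟩
  obtain ⟨W, hW, hpW, hWsub⟩ := exists_isAffineOpen_mem_and_subset (x := p)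
    (U := (T.hom ⁻¹ᵁ i.V) ⊓ ⟨Eᶜ, hE.isOpen_compl⟩) ⟨hpV, hpE⟩
  have hrange : Set.range (hW.fromSpec ≫ T.hom) ⊆ Set.range i.hV.fromSpec := by
    rw [i.hV.range_fromSpec]
    rintro _ ⟨y, rfl⟩
    exact (hWsub (hW.range_fromSpec ▸ ⟨y, rfl⟩ : hW.fromSpec y ∈ (W : Set T.left))).1
  obtain ⟨τ, hφ⟩ : ∃ τ : Γ(S, i.V) →+* Γ(T.left, W),
      Spec.map (CommRingCat.ofHom τ) = IsOpenImmersion.lift i.hV.fromSpec (hW.fromSpec ≫ T.hom) hrange :=
    ⟨(Spec.preimage (IsOpenImmersion.lift i.hV.fromSpec (hW.fromSpec ≫ T.hom) hrange)).hom, Spec.map_preimage _⟩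
  have htW : Spec.map (CommRingCat.ofHom τ) ≫ i.hV.fromSpec = hW.fromSpec ≫ T.hom := by
    rw [hφ, IsOpenImmersion.lift_fac]
  let TW : Over S := Over.mk (Spec.map (CommRingCat.ofHom τ) ≫ i.hV.fromSpec)
  let a : TW ⟶ T := Over.homMk hW.fromSpec htW.symm
  obtain ⟨D, hDt, hDc, hDI⟩ := i.exists_dat τ (HilbD.pull f a I.1) (isFinite_pull a I.1 hfin) (by
    intro z
    obtain ⟨w, hw⟩ := support_pull a I.1 z
    have hwW : (I.1.subschemeι ≫ PicF.XTproj f T) w ∈ (W : Set T.left) := by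
      rw [Scheme.Hom.comp_apply, hw, ← Scheme.Hom.comp_apply, XTmap_snd', Scheme.Hom.comp_apply,
        ← hW.range_fromSpec]
      exact ⟨_, rfl⟩
    have hwU : ¬ (w ∈ bad) := fun hb => (hWsub hwW).2 ⟨w, hb, rfl⟩
    rw [Scheme.Hom.comp_apply, ← XTmap_fst' a, Scheme.Hom.comp_apply, ← hw, ← Scheme.Hom.comp_apply]
    exact not_not.1 hwU)
  -- a neighbourhood of the point upstairs
  obtain ⟨W', hW', hpW', hW'sub⟩ := exists_isAffineOpen_mem_and_subset (x := p') (U := g.left ⁻¹ᵁ W) hpW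
  letI : Algebra Γ(T.left, W) Γ(T'.left, W') := (g.left.appLE W W' hW'sub).hom.toAlgebra
  let D' := D.baseChange (A' := Γ(T'.left, W'))
  haveI := hDc
  haveI : IsClosedImmersion D'.ι := D.isClosedImmersion_baseChange _
  have hcomp : Spec.map (CommRingCat.ofHom D'.tV) ≫ i.hV.fromSpec = hW'.fromSpec ≫ T'.hom := by
    show Spec.map (CommRingCat.ofHom ((g.left.appLE W W' hW'sub).hom.comp D.tV)) ≫ _ = _
    rw [hDt, CommRingCat.ofHom_comp, Spec.map_comp_assoc]
    show Spec.map (g.left.appLE W W' hW'sub) ≫ Spec.map (CommRingCat.ofHom τ) ≫ _ = _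
    rw [htW, ← Category.assoc, IsAffineOpen.SpecMap_appLE_fromSpec g.left hW hW' hW'sub, Category.assoc, Over.w g]
  let a' : D'.ov ⟶ T' := Over.homMk hW'.fromSpec hcomp.symm
  obtain ⟨χ, D'', e'', -, -, hD''t, hD''c, hD''I, he'', -⟩ := exists_point_dat (i := i) D'.tV (a' ≫ q)
  have hI' : HilbD.pull f (a' ≫ q) i.Z = D'.ideal := by
    subst hDt
    rw [← pull_pull, hq, pull_pull, ← D.pull_baseChange, eq_of_heq hDI]
    rw [pull_pull]
    congr 1
    refine Over.OverMorphism.ext ?_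
    show hW'.fromSpec ≫ g.left = Spec.map (g.left.appLE W W' hW'sub) ≫ hW.fromSpec
    rw [IsAffineOpen.SpecMap_appLE_fromSpec g.left hW hW' hW'sub]
  obtain ⟨σ, hσs, hσ1, hσ2⟩ := Dat.exists_hom_surjective (D := D'') (D' := D') hD''t
    (hD''I.trans (heq_of_eq hI'))
  have hspan : Submodule.span Γ(T'.left, W') (Set.range (D'.ψ ∘ i.b)) = ⊤ := by
    refine top_le_iff.1 fun z _ => ?_
    obtain ⟨y, rfl⟩ := hσs z
    rw [← e''.sum_equivFun y, map_sum]
    refine Submodule.sum_mem _ fun j _ => ?_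
    rw [Algebra.smul_def, map_mul, ← RingHom.comp_apply σ, hσ1, ← Algebra.smul_def, he'', ← RingHom.comp_apply σ, hσ2]
    exact Submodule.smul_mem _ _ (Submodule.subset_span ⟨j, rfl⟩)
  obtain ⟨y', hy'⟩ : p' ∈ Set.range hW'.fromSpec := hW'.range_fromSpec.symm ▸ hpW'
  obtain ⟨O, hyO, hO⟩ := Chart.exists_span_nhd (A' := Γ(T'.left, W')) (D.ψ ∘ i.b)
    (TensorProduct.mk Γ(T.left, W) Γ(T'.left, W') D.Q 1) (TensorProduct.isBaseChange _ _ _) hspan y'
  obtain ⟨_, ⟨_, ⟨c, rfl⟩, rfl⟩, hyc, hcO⟩ := (PrimeSpectrum.isBasis_basic_opens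
    (R := Γ(T.left, W))).exists_subset_of_mem_open hyO O.2
  -- localise
  let Dg := D.baseChange (A' := Localization.Away c)
  haveI : IsClosedImmersion Dg.ι := D.isClosedImmersion_baseChange _
  have hspang : Submodule.span (Localization.Away c) (Set.range (Dg.ψ ∘ i.b)) = ⊤ := by
    let N := Submodule.span Γ(T.left, W) (Set.range (D.ψ ∘ i.b))
    have hdis : Disjoint (↑(PrimeSpectrum.basicOpen c) : Set (PrimeSpectrum Γ(T.left, W)))
        (Module.support Γ(T.left, W) (D.Q ⧸ N)) := Set.disjoint_left.2 fun x hx => hO x (hcO hx)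
    haveI : Subsingleton (LocalizedModule (Submonoid.powers c) (D.Q ⧸ N)) :=
      LocalizedModule.subsingleton_iff_disjoint.2 hdis
    have hker : ∀ z : D.Q, ∃ n, c ^ n • z ∈ N := fun z => by
      obtain ⟨_, ⟨n, rfl⟩, hn⟩ := (LocalizedModule.subsingleton_iff (R := Γ(T.left, W))).1
        ‹Subsingleton (LocalizedModule (Submonoid.powers c) (D.Q ⧸ N))› (N.mkQ z)
      exact ⟨n, (Submodule.Quotient.mk_eq_zero N).1 hn⟩
    refine top_le_iff.1 fun z _ => ?_
    induction z using TensorProduct.induction_on with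
    | zero => exact Submodule.zero_mem _
    | add x y hx hy => exact Submodule.add_mem _ (hx trivial) (hy trivial)
    | tmul r z =>
      obtain ⟨n, hn⟩ := hker z
      have h1 : (1 : (Localization.Away c)) ⊗ₜ[Γ(T.left, W)] (c ^ n • z) ∈ Submodule.span (Localization.Away c) (Set.range (Dg.ψ ∘ i.b)) := by
        rw [Submodule.mem_span_range_iff_exists_fun] at hn
        obtain ⟨co, hco⟩ := hn
        rw [← hco, TensorProduct.tmul_sum]
        refine Submodule.sum_mem _ fun j _ => ?_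
        rw [TensorProduct.tmul_smul, ← algebraMap_smul (Localization.Away c) (co j)]
        refine Submodule.smul_mem _ _ ?_
        exact (Submodule.subset_span (R := Localization.Away c) (M := Dg.Q) (s := Set.range (Dg.ψ ∘ i.b)) ⟨j, rfl⟩ :)
      obtain ⟨uu, huu⟩ := (IsLocalization.Away.algebraMap_isUnit (S := Localization.Away c) c).pow n
      have : r ⊗ₜ[Γ(T.left, W)] z = (r * ↑uu⁻¹) • ((1 : (Localization.Away c)) ⊗ₜ[Γ(T.left, W)] (c ^ n • z)) := by
        rw [TensorProduct.tmul_smul, ← algebraMap_smul (Localization.Away c) (c ^ n), smul_smul, TensorProduct.smul_tmul', map_pow, ← huu]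
        simp
      rw [this]
      exact Submodule.smul_mem _ _ h1
  let jg : Dg.ov ⟶ D.ov := D.homOv (algebraMap Γ(T.left, W) (Localization.Away c)) rfl
  haveI : IsOpenImmersion jg.left :=
    IsOpenImmersion.of_isLocalization (S := Localization.Away c) c
  subst hDt
  haveI : IsOpenImmersion (jg ≫ a).left := inferInstanceAs (IsOpenImmersion (jg.left ≫ hW.fromSpec))
  have hIg : HilbD.pull f (jg ≫ a) I.1 = Dg.ideal := by
    rw [← pull_pull, ← eq_of_heq hDI]
    exact D.pull_baseChange (Localization.Away c)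
  refine i.le_locus (jg ≫ a) ?_ ?_
  · rw [hIg]
    refine Dg.isIn_of_span ?_ hspang
    rw [← hIg]
    exact isFinLocFreeOfDeg_pull f (jg ≫ a) I.1 I.2
  · have hy : (Spec.map (g.left.appLE W W' hW'sub) ≫ hW.fromSpec) y' = p := by
      rw [IsAffineOpen.SpecMap_appLE_fromSpec g.left hW hW' hW'sub, Scheme.Hom.comp_apply, hy']
    obtain ⟨x, hx⟩ : (y' : PrimeSpectrum Γ(T'.left, W')).comap (algebraMap Γ(T.left, W) Γ(T'.left, W')) ∈
        Set.range (PrimeSpectrum.comap (algebraMap Γ(T.left, W) (Localization.Away c))) := by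
      rw [PrimeSpectrum.localization_away_comap_range (Localization.Away c) c]; exact hyc
    refine ⟨x, ?_⟩
    show hW.fromSpec (jg.left x) = _
    rw [Scheme.Hom.comp_apply] at hy
    rw [show g.left p' = p from rfl, ← hy]
    exact congrArg hW.fromSpec hx

/-- Families lying in the chart everywhere are in the chart. -/
theorem isIn_of_locus [IsSeparated f] {T : Over S} (I : (PicF.XT f T).IdealSheafData) (h : i.locus I = ⊤) :
    i.IsIn T I := by
  let J := {W : T.left.Opens // i.IsIn (opn T W) (HilbD.pull f (opnι T W) I)}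
  have hJ : TopologicalSpace.IsOpenCover fun W : J => W.1 := h
  let 𝒰 := T.left.openCoverOfIsOpenCover (fun W : J => W.1) hJ
  choose q hq using fun W : J => W.2
  have agree : ∀ W W' : J, pullback.fst (𝒰.f W) (𝒰.f W') ≫ (q W).left = pullback.snd (𝒰.f W) (𝒰.f W') ≫ (q W').left := by
    intro W W'
    let O : Over S := Over.mk (pullback.fst W.1.ι W'.1.ι ≫ W.1.ι ≫ T.hom)
    let p₁ : O ⟶ opn T W.1 := Over.homMk (pullback.fst W.1.ι W'.1.ι) rfl
    let p₂ : O ⟶ opn T W'.1 := Over.homMk (pullback.snd W.1.ι W'.1.ι) (by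
      show _ ≫ W'.1.ι ≫ T.hom = pullback.fst W.1.ι W'.1.ι ≫ W.1.ι ≫ T.hom
      rw [pullback.condition_assoc])
    have := i.hom_ext (p₁ ≫ q W) (p₂ ≫ q W') (by
      rw [← pull_pull, ← pull_pull, hq, hq, pull_pull, pull_pull]
      congr 1
      exact Over.OverMorphism.ext pullback.condition)
    exact congrArg CommaMorphism.left this
  let q₀ := 𝒰.glueMorphisms (fun W => (q W).left) agree
  have hq₀ : ∀ W : J, W.1.ι ≫ q₀ = (q W).left := fun W => Scheme.Cover.ι_glueMorphisms 𝒰 _ agree W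
  let Q : T ⟶ i.P := Over.homMk q₀ (Scheme.Cover.hom_ext 𝒰 _ _ fun W => by
    show W.1.ι ≫ q₀ ≫ i.P.hom = W.1.ι ≫ T.hom
    rw [← Category.assoc, hq₀]
    exact Over.w (q W))
  haveI : ∀ W : J, IsOpenImmersion (PicF.XTmap f (opnι T W.1)) := fun W =>
    MorphismProperty.of_isPullback (P := @IsOpenImmersion) (isPullback_XTmap f (opnι T W.1)).flip
      (inferInstanceAs (IsOpenImmersion W.1.ι))
  refine ⟨Q, DescLib.eq_of_flat_family (fun W : J => PicF.XTmap f (opnι T W.1)) (fun x => ?_) fun W => ?_⟩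
  · obtain ⟨W, hW⟩ := TopologicalSpace.Opens.mem_iSup.1 (h ▸ trivial : PicF.XTproj f T x ∈ i.locus I)
    obtain ⟨y, hy⟩ := LineDesc.Rig.mem_range_XTmap (f := f) (opnι T W.1) (p := x)
      (show _ ∈ Set.range W.1.ι by rw [Scheme.Opens.range_ι]; exact hW)
    exact ⟨W, y, hy⟩
  · rw [← pull_eq_comap, ← pull_eq_comap, ← hq W, pull_pull]
    congr 1
    exact Over.OverMorphism.ext (hq₀ W)

end Idx

end

end Groth.Agent.HilbDLib
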