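import Groth.Agent.HilbDLib.ChartRep
import Groth.Agent.AffineNhd.Union

/-!
# The charts cover the Hilbert functor of points
-/

set_option autoImplicit false
set_option linter.style.haveILetI false

universe u

open CategoryTheory CategoryTheory.Limits AlgebraicGeometry TensorProduct

namespace Groth.Agent.HilbDLib

noncomputable section

/-- A finite algebra over a field has at most as many maximal ideals as its dimension. -/
theorem card_maximal_le {K : Type u} [Field K] {Q : Type u} [CommRing Q] [Algebra K Q] [Module.Finite K Q]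
    (s : Finset (PrimeSpectrum Q)) : s.card ≤ Module.finrank K Q := by
  classical
  haveI : IsArtinianRing Q := IsArtinianRing.of_finite K Q
  let I : s → Ideal Q := fun p => p.1.asIdeal
  have hI : Pairwise (Function.onFun IsCoprime I) := fun p q hpq => by
    have hp : p.1.asIdeal.IsMaximal := IsArtinianRing.isMaximal_of_isPrime _
    have hq : q.1.asIdeal.IsMaximal := IsArtinianRing.isMaximal_of_isPrime _
    exact Ideal.isCoprime_iff_sup_eq.2 (hp.coprime_of_ne hq fun h => hpq (Subtype.ext (PrimeSpectrum.ext h)))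
  let π : Q →ₗ[K] ∀ p : s, Q ⧸ I p := LinearMap.pi fun p => (Ideal.Quotient.mkₐ K (I p)).toLinearMap
  have hπ : Function.Surjective π := fun x => by
    obtain ⟨r, hr⟩ := Ideal.pi_quotient_surjective hI x
    exact ⟨r, funext hr⟩
  haveI : ∀ p : s, Module.Finite K (Q ⧸ I p) := fun p =>
    Module.Finite.of_surjective (Ideal.Quotient.mkₐ K (I p)).toLinearMap Ideal.Quotient.mk_surjective
  calc s.card = ∑ _p : s, 1 := by simp
    _ ≤ ∑ p : s, Module.finrank K (Q ⧸ I p) := Finset.sum_le_sum fun p _ => by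
        haveI : Nontrivial (Q ⧸ I p) := Ideal.Quotient.nontrivial_iff.2 p.1.2.ne_top
        exact Module.finrank_pos
    _ = Module.finrank K (∀ p : s, Q ⧸ I p) := (Module.finrank_pi_fintype K).symm
    _ ≤ Module.finrank K Q := π.finrank_le_finrank_of_surjective hπ

variable {X S : Scheme.{u}} {f : X ⟶ S} {d : ℕ}

/-- An embedded family of an affine index is generated by the functions of `U`. -/
theorem Idx.Dat.span_range {i : Idx f d} {A : Type u} [CommRing A] (D : i.Dat A) [IsClosedImmersion D.ι] :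
    Submodule.span A (Set.range D.ψ) = ⊤ := by
  let K : Subalgebra A D.Q :=
    (Submodule.span A (Set.range D.ψ)).toSubalgebra (Submodule.subset_span ⟨1, map_one _⟩) fun x y hx hy => by
      induction hx using Submodule.span_induction with
      | mem a ha =>
        induction hy using Submodule.span_induction with
        | mem c hc =>
          obtain ⟨a, rfl⟩ := ha
          obtain ⟨c, rfl⟩ := hc
          exact Submodule.subset_span ⟨a * c, map_mul _ _ _⟩
        | zero => rw [mul_zero]; exact Submodule.zero_mem _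
        | add c c' _ _ h h' => rw [mul_add]; exact Submodule.add_mem _ h h'
        | smul r c _ h => rw [mul_smul_comm]; exact Submodule.smul_mem _ _ h
      | zero => rw [zero_mul]; exact Submodule.zero_mem _
      | add a a' _ _ h h' => rw [add_mul]; exact Submodule.add_mem _ h h'
      | smul r a _ h => rw [smul_mul_assoc]; exact Submodule.smul_mem _ _ h
  let ψK : Γ(X, i.U) →+* K := D.ψ.codRestrict K.toSubring fun β => Submodule.subset_span ⟨β, rfl⟩
  let inc : K →+* D.Q := K.val.toRingHom
  let ιK : Spec (CommRingCat.of K) ⟶ PicF.XT f D.ov :=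
    pullback.lift (Spec.map (CommRingCat.ofHom ψK) ≫ i.hU.fromSpec)
      (Spec.map (CommRingCat.ofHom (algebraMap A K))) (by
        show _ = _ ≫ (Spec.map (CommRingCat.ofHom D.tV) ≫ i.hV.fromSpec)
        rw [Category.assoc, ← IsAffineOpen.SpecMap_appLE_fromSpec f i.hV i.hU i.le, ← Spec.map_comp_assoc,
          ← Spec.map_comp_assoc]
        refine congrArg (fun φ => Spec.map φ ≫ i.hV.fromSpec) (CommRingCat.hom_ext ?_)
        exact RingHom.ext fun r => Subtype.ext (RingHom.congr_fun D.w r))
  have hι : Spec.map (CommRingCat.ofHom inc) ≫ ιK = D.ι := by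
    apply pullback.hom_ext
    · rw [Category.assoc, pullback.lift_fst, D.ι_fst, ← Spec.map_comp_assoc]
      rfl
    · rw [Category.assoc, pullback.lift_snd, ← Spec.map_comp]
      exact D.ι_proj.symm
  haveI : IsClosedImmersion (Spec.map (CommRingCat.ofHom inc) ≫ ιK) := hι.symm ▸ inferInstance
  haveI : IsClosedImmersion (Spec.map (CommRingCat.ofHom inc)) := IsClosedImmersion.of_comp _ ιK
  have hsurj : Function.Surjective inc := by
    have h0 := (IsClosedImmersion.isAffine_surjective_of_isAffine (f := Spec.map (CommRingCat.ofHom inc))).2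
    have e : CommRingCat.ofHom inc = (Scheme.ΓSpecIso _).inv ≫ (Spec.map (CommRingCat.ofHom inc)).appTop ≫
        (Scheme.ΓSpecIso _).hom := by simp
    rw [show (inc : _ → _) = ⇑(CommRingCat.ofHom inc).hom from rfl, e]
    simp only [CommRingCat.hom_comp, RingHom.coe_comp]
    exact ((ConcreteCategory.bijective_of_isIso (Scheme.ΓSpecIso _).hom).surjective.comp h0).comp
      (ConcreteCategory.bijective_of_isIso (Scheme.ΓSpecIso _).inv).surjective
  refine top_le_iff.1 fun q _ => ?_
  obtain ⟨k, rfl⟩ := hsurj q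
  exact k.2

/-- The charts cover the Hilbert functor. -/
theorem exists_mem_locus [IsSeparated f]
    (h : ∀ (s : S) (x : Fin d → X), (∀ j, f.base (x j) = s) → ∃ U : X.Opens, IsAffineOpen U ∧ ∀ j, x j ∈ U)
    {T : Over S} (I : HilbD.Obj f d T) (p : T.left) : ∃ i : Idx f d, p ∈ i.locus I.1 := by
  classical
  let K := T.left.residueField p
  let T₀ : Over S := Over.mk (T.left.fromSpecResidueField p ≫ T.hom)
  let g : T₀ ⟶ T := Over.homMk (T.left.fromSpecResidueField p) rfl
  let s : S := T.hom p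
  let I₀ := HilbD.pull f g I.1
  let x₀ : I₀.subscheme → X := fun z => (I₀.subschemeι ≫ pullback.fst f T₀.hom) z
  have hI₀ : Mor2.IsFinLocFreeOfDeg d (I₀.subschemeι ≫ PicF.XTproj f T₀) :=
    isFinLocFreeOfDeg_pull f g I.1 I.2
  -- the fibre lies over the point
  have hs : ∀ z, f (x₀ z) = s := by
    intro z
    show f ((I₀.subschemeι ≫ pullback.fst f T₀.hom) z) = s
    rw [← Scheme.Hom.comp_apply, Category.assoc, pullback.condition, Scheme.Hom.comp_apply]
    show T.hom (T.left.fromSpecResidueField p _) = T.hom p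
    rw [Scheme.fromSpecResidueField_apply]
  -- the fibre has at most `d` points
  obtain ⟨hfin, hflat, -⟩ := hI₀.1
  haveI : IsAffine T₀.left := inferInstanceAs (IsAffine (Spec K))
  haveI : IsAffine I₀.subscheme := isAffine_of_isAffineHom (I₀.subschemeι ≫ PicF.XTproj f T₀)
  let π := I₀.subschemeι ≫ PicF.XTproj f T₀
  obtain ⟨φ, hφ⟩ : ∃ φ, Spec.map φ = I₀.subscheme.isoSpec.inv ≫ π := ⟨_, Spec.map_preimage _⟩
  letI : Algebra K Γ(I₀.subscheme, ⊤) := φ.hom.toAlgebra
  have hfin' : φ.hom.Finite := by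
    rw [← IsFinite.SpecMap_iff, hφ]
    infer_instance
  haveI : Module.Finite K Γ(I₀.subscheme, ⊤) := hfin'
  have hrank : Module.finrank K Γ(I₀.subscheme, ⊤) = d := by
    haveI : Module.Flat K Γ(I₀.subscheme, ⊤) := inferInstance
    have h1 := Scheme.Hom.finrank_SpecMap_algebraMap K Γ(I₀.subscheme, ⊤) (IsLocalRing.closedPoint K)
    rw [Module.rankAtStalk_eq_finrank_of_free, show CommRingCat.ofHom (algebraMap K Γ(I₀.subscheme, ⊤)) = φ from rfl,
      hφ, Scheme.Hom.finrank_comp_left_of_isIso, hI₀.2] at h1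
    simpa using h1.symm
  haveI : IsArtinianRing Γ(I₀.subscheme, ⊤) := IsArtinianRing.of_finite K _
  haveI : Finite I₀.subscheme := Finite.of_equiv _ I₀.subscheme.isoSpec.hom.homeomorph.toEquiv.symm
  haveI := Fintype.ofFinite I₀.subscheme
  have hcard : Fintype.card I₀.subscheme ≤ d := by
    let e : I₀.subscheme ≃ PrimeSpectrum Γ(I₀.subscheme, ⊤) := I₀.subscheme.isoSpec.hom.homeomorph.toEquiv
    rw [← hrank, ← Finset.card_univ, ← Finset.card_map e.toEmbedding]
    exact card_maximal_le _
  -- an affine open containing the fibre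
  obtain ⟨U₁, hU₁, hxU₁⟩ : ∃ U : X.Opens, IsAffineOpen U ∧ ∀ z, x₀ z ∈ U := by
    rcases isEmpty_or_nonempty I₀.subscheme with hE | ⟨⟨z₀⟩⟩
    · exact ⟨⊥, isAffineOpen_bot X, fun z => isEmptyElim z⟩
    · let e := Fintype.equivFin I₀.subscheme
      let x : Fin d → X := fun j => if hj : (j : ℕ) < Fintype.card I₀.subscheme then x₀ (e.symm ⟨j, hj⟩) else x₀ z₀
      obtain ⟨U, hU, hxU⟩ := h s x fun j => by
        by_cases hj : (j : ℕ) < Fintype.card I₀.subscheme
        · simp only [x, dif_pos hj]; exact hs _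
        · simp only [x, dif_neg hj]; exact hs _
      refine ⟨U, hU, fun z => ?_⟩
      have := hxU ⟨e z, lt_of_lt_of_le (e z).2 hcard⟩
      simpa [x, (e z).2] using this
  obtain ⟨V, hV, hsV, -⟩ := exists_isAffineOpen_mem_and_subset (x := s) (U := (⊤ : S.Opens)) trivial
  obtain ⟨c, hcle, hcmem⟩ := AffineNhd.exists_basicOpen_finset hU₁ (Finset.univ.image x₀)
    (fun y hy => by obtain ⟨z, -, rfl⟩ := Finset.mem_image.1 hy; exact hxU₁ z) (f ⁻¹ᵁ V)
    (fun y hy => by
      obtain ⟨z, -, rfl⟩ := Finset.mem_image.1 hy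
      show f (x₀ z) ∈ V
      rw [hs]; exact hsV)
  let i₀ : Idx f d := ⟨V, hV, X.basicOpen c, hU₁.basicOpen c, hcle, fun _ => 0⟩
  -- data of the fibre
  have hT₀ : Set.range T₀.hom ⊆ Set.range hV.fromSpec := by
    rw [hV.range_fromSpec]
    rintro _ ⟨y, rfl⟩
    show T.hom (T.left.fromSpecResidueField p y) ∈ V
    rw [Scheme.fromSpecResidueField_apply]; exact hsV
  obtain ⟨τ, hτ⟩ : ∃ τ : Γ(S, V) →+* K,
      Spec.map (CommRingCat.ofHom τ) = IsOpenImmersion.lift hV.fromSpec T₀.hom hT₀ :=
    ⟨(Spec.preimage (IsOpenImmersion.lift hV.fromSpec T₀.hom hT₀)).hom, Spec.map_preimage _⟩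
  have hT₀' : Spec.map (CommRingCat.ofHom τ) ≫ hV.fromSpec = T₀.hom := by rw [hτ, IsOpenImmersion.lift_fac]
  let g' : Over.mk (Spec.map (CommRingCat.ofHom τ) ≫ hV.fromSpec) ⟶ T :=
    Over.homMk (T.left.fromSpecResidueField p) hT₀'.symm
  let a₀ : Over.mk (Spec.map (CommRingCat.ofHom τ) ≫ hV.fromSpec) ⟶ T₀ := Over.homMk (𝟙 _) (by
    show 𝟙 _ ≫ _ = _
    rw [Category.id_comp]; exact hT₀'.symm)
  have hag : a₀ ≫ g = g' := Over.OverMorphism.ext (Category.id_comp _)
  obtain ⟨D, hDt, hDc, hDI⟩ := i₀.exists_dat τ (HilbD.pull f g' I.1) (isFinite_pull g' I.1 I.2.1.1) (by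
    rw [← hag, ← pull_pull]
    intro z
    obtain ⟨w, hw⟩ := support_pull a₀ I₀ z
    rw [Scheme.Hom.comp_apply, ← XTmap_fst' a₀, Scheme.Hom.comp_apply, ← hw, ← Scheme.Hom.comp_apply]
    exact hcmem _ (Finset.mem_image_of_mem x₀ (Finset.mem_univ w)))
  subst hDt
  haveI := hDc
  have hdeg : Mor2.IsFinLocFreeOfDeg d (D.ideal.subschemeι ≫ PicF.XTproj f D.ov) := by
    rw [eq_of_heq hDI]
    exact isFinLocFreeOfDeg_pull f g' I.1 I.2
  obtain ⟨hproj, hrk⟩ := D.projective_rank hdeg
  -- a basis among the functions of `U`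
  obtain ⟨bs, hbs, hspan, hli⟩ := exists_linearIndependent (K := K) (V := D.Q) (t := Set.range D.ψ)
  rw [D.span_range] at hspan
  let B₀ : Module.Basis bs K D.Q := Module.Basis.mk hli (by rw [Subtype.range_coe, hspan])
  have hd : Module.finrank K D.Q = d := by
    have := hrk (IsLocalRing.closedPoint K)
    rwa [Module.rankAtStalk_eq_finrank_of_free, Pi.natCast_apply, Nat.cast_id] at this
  haveI : Fintype bs := FiniteDimensional.fintypeBasisIndex B₀
  let e : Fin d ≃ bs := (Fintype.equivFinOfCardEq ((Module.finrank_eq_card_basis B₀).symm.trans hd)).symm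
  choose β hβ using fun j : Fin d => hbs (e j).2
  let i : Idx f d := { i₀ with b := β }
  let Di : i.Dat K := ⟨D.tV, D.Q, D.ψ, D.w⟩
  have hin : i.IsIn Di.ov Di.ideal := Di.isIn (B₀.reindex e.symm) fun j => by
    rw [Module.Basis.reindex_apply, Equiv.symm_symm, Module.Basis.mk_apply]
    exact (hβ j).symm
  refine ⟨i, ?_⟩
  let g'' : Di.ov ⟶ T := g'
  have := i.mem_locus_of_isIn I g'' (by rw [← eq_of_heq hDI]; exact hin) (IsLocalRing.closedPoint K)
  change T.left.fromSpecResidueField p _ ∈ _ at this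
  rwa [Scheme.fromSpecResidueField_apply] at this

end

end Groth.Agent.HilbDLib
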