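import Groth.Prelude.Def_Mor2
import Mathlib.AlgebraicGeometry.Morphisms.FlatRank
import Mathlib.RingTheory.Spectrum.Prime.FreeLocus
import Mathlib.RingTheory.LocalRing.Module
import Mathlib.RingTheory.Artinian.Module

/-! # Degrees of composites of finite locally free morphisms -/

set_option autoImplicit false
set_option maxHeartbeats 1000000
set_option linter.style.haveILetI false
set_option backward.isDefEq.respectTransparency false
set_option backward.isDefEq.respectTransparency.types false

universe u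
open CategoryTheory CategoryTheory.Limits AlgebraicGeometry
open scoped TensorProduct

namespace Groth.Agent.HilbDLib

/-- Over a field a finite flat algebra of constant rank over a finite algebra has the product dimension. -/
theorem finrank_tower_of_rankAtStalk (K B C : Type u) [Field K] [CommRing B] [CommRing C] [Algebra K B] [Algebra B C]
    [Algebra K C] [IsScalarTower K B C] [Module.Finite K B] [Module.Finite B C] [Module.Flat B C] (a : ℕ)
    (h : ∀ p : PrimeSpectrum B, Module.rankAtStalk C p = a) :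
    Module.finrank K C = Module.finrank K B * a := by
  cases subsingleton_or_nontrivial B with
  | inl hB =>
    haveI := Module.subsingleton B C
    rw [Module.finrank_zero_of_subsingleton, Module.finrank_zero_of_subsingleton, zero_mul]
  | inr hB =>
    haveI : IsArtinianRing B := IsArtinianRing.of_finite K B
    haveI : Module.Free B C := Module.free_of_flat_of_finrank_eq B C a fun P => by
      letI : Field (B ⧸ P.1) := Ideal.Quotient.field P.1
      have h1 := Module.rankAtStalk_baseChange (R := B) (S := B ⧸ P.1) (M := C) (⟨⊥, Ideal.isPrime_bot⟩ : PrimeSpectrum (B ⧸ P.1))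
      rw [Module.rankAtStalk_eq_finrank_of_free, Pi.natCast_apply, Nat.cast_id] at h1
      exact h1.trans (h _)
    have h2 : Module.finrank B C = a := by
      have := h ⟨_, (Ideal.exists_maximal B).choose_spec.isPrime⟩
      rwa [Module.rankAtStalk_eq_finrank_of_free, Pi.natCast_apply, Nat.cast_id] at this
    rw [← Module.finrank_mul_finrank K B C, h2]

/-- Degrees multiply over a field. -/
theorem finrank_comp_field {K : Type u} [Field K] {XX YY : Scheme.{u}} (f' : XX ⟶ YY)
    (g' : YY ⟶ Spec (CommRingCat.of K)) [IsFinite f'] [Flat f'] [IsFinite g'] [Flat g'] (a : ℕ)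
    (e3 : ∀ y, f'.finrank y = a) (pt : Spec (CommRingCat.of K)) :
    (f' ≫ g').finrank pt = g'.finrank pt * a := by
  haveI : IsAffine YY := isAffine_of_isAffineHom g'
  haveI : IsAffine XX := isAffine_of_isAffineHom f'
  obtain ⟨B, ⟨eY⟩⟩ : ∃ B : CommRingCat.{u}, Nonempty (YY ≅ Spec B) := ⟨_, ⟨YY.isoSpec⟩⟩
  obtain ⟨C, ⟨eX⟩⟩ : ∃ C : CommRingCat.{u}, Nonempty (XX ≅ Spec C) := ⟨_, ⟨XX.isoSpec⟩⟩
  obtain ⟨ψ, hψ⟩ := Spec.map_surjective (eY.inv ≫ g')
  obtain ⟨φ, hφ⟩ := Spec.map_surjective (eX.inv ≫ f' ≫ eY.hom)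
  have hfg : eX.inv ≫ f' ≫ g' = Spec.map (ψ ≫ φ) := by
    rw [Spec.map_comp, hφ, hψ]; simp
  haveI : IsFinite (f' ≫ g') := inferInstance
  haveI : Flat (f' ≫ g') := inferInstance
  have r1 : (f' ≫ g').finrank pt = (Spec.map (ψ ≫ φ)).finrank pt := by
    rw [← hfg]
    exact (congrFun (Scheme.Hom.finrank_comp_left_of_isIso eX.inv (f' ≫ g')) pt).symm
  have r2 : g'.finrank pt = (Spec.map ψ).finrank pt := by
    rw [hψ, Scheme.Hom.finrank_comp_left_of_isIso]
  rw [r1, r2]
  have hFf : IsFinite (Spec.map φ) := by rw [hφ]; infer_instance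
  have hLf : Flat (Spec.map φ) := by rw [hφ]; infer_instance
  have hFg : IsFinite (Spec.map ψ) := by rw [hψ]; infer_instance
  have hLg : Flat (Spec.map ψ) := by rw [hψ]; infer_instance
  have hpb : IsPullback (eX.inv) (Spec.map φ) f' eY.inv :=
    IsPullback.of_horiz_isIso ⟨by rw [hφ]; simp⟩
  have e3' : ∀ p, (Spec.map φ).finrank p = a := fun p => by
    rw [Scheme.Hom.finrank_of_isPullback _ _ _ _ hpb, e3]
  letI : Algebra K B := ψ.hom.toAlgebra
  letI : Algebra B C := φ.hom.toAlgebra
  letI : Algebra K C := (φ.hom.comp ψ.hom).toAlgebra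
  haveI : IsScalarTower K B C := IsScalarTower.of_algebraMap_eq' rfl
  haveI : Module.Finite B C := RingHom.finite_algebraMap.1 ((IsFinite.SpecMap_iff φ).1 hFf)
  haveI : Module.Finite K B := RingHom.finite_algebraMap.1 ((IsFinite.SpecMap_iff ψ).1 hFg)
  haveI : Module.Finite K C := Module.Finite.trans B C
  haveI : Module.Flat B C := RingHom.flat_algebraMap_iff.1 (Flat.SpecMap_iff.1 hLf)
  have hr : ∀ p : PrimeSpectrum B, Module.rankAtStalk C p = a := fun p => by
    rw [← Scheme.Hom.finrank_SpecMap_algebraMap]; exact e3' p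
  have h1 := Scheme.Hom.finrank_SpecMap_algebraMap K B pt
  have h2 := Scheme.Hom.finrank_SpecMap_algebraMap K C pt
  rw [Module.rankAtStalk_eq_finrank_of_free, Pi.natCast_apply, Nat.cast_id] at h1 h2
  rw [show (Spec.map (ψ ≫ φ)).finrank pt = Module.finrank K C from h2,
    show (Spec.map ψ).finrank pt = Module.finrank K B from h1]
  exact finrank_tower_of_rankAtStalk _ _ _ a hr


/-- **Degrees multiply.** -/
theorem finLocFreeOfDeg_comp {X Y S : Scheme.{u}} {f : X ⟶ Y} {g : Y ⟶ S} {a b : ℕ}
    (hf : Mor2.IsFinLocFreeOfDeg a f) (hg : Mor2.IsFinLocFreeOfDeg b g) :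
    Mor2.IsFinLocFreeOfDeg (b * a) (f ≫ g) := by
  obtain ⟨⟨hf1, hf2, hf3⟩, hfd⟩ := hf
  obtain ⟨⟨hg1, hg2, hg3⟩, hgd⟩ := hg
  haveI := hf1; haveI := hf2; haveI := hf3; haveI := hg1; haveI := hg2; haveI := hg3
  refine ⟨⟨inferInstance, inferInstance, inferInstance⟩, fun s => ?_⟩
  let σ := S.fromSpecResidueField s
  let g' : pullback g σ ⟶ Spec (S.residueField s) := pullback.snd g σ
  let f' : pullback f (pullback.fst g σ) ⟶ pullback g σ := pullback.snd f (pullback.fst g σ)
  let pt : Spec (S.residueField s) := IsLocalRing.closedPoint (S.residueField s)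
  have hsq : IsPullback (pullback.fst f (pullback.fst g σ)) (f' ≫ g') (f ≫ g) σ :=
    (IsPullback.of_hasPullback f (pullback.fst g σ)).paste_vert (IsPullback.of_hasPullback g σ)
  have e1 : (f ≫ g).finrank s = (f' ≫ g').finrank pt := by
    rw [Scheme.Hom.finrank_of_isPullback _ _ _ _ hsq]
    exact congrArg _ (S.fromSpecResidueField_apply s pt).symm
  have e2 : b = g'.finrank pt := by
    rw [Scheme.Hom.finrank_pullback_snd, hgd]
  have e3 : ∀ y, f'.finrank y = a := fun y => by rw [Scheme.Hom.finrank_pullback_snd, hfd]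
  rw [e1, e2]
  exact finrank_comp_field (K := S.residueField s) f' g' a e3 pt

end Groth.Agent.HilbDLib
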