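import Groth.Agent.HilbDLib.Flag
import Groth.Agent.SrcDescent.SmoothFppf

/-!
# Smoothness of the Hilbert scheme of points of a curve
-/

set_option autoImplicit false
set_option maxHeartbeats 1000000
set_option linter.style.haveILetI false
set_option backward.isDefEq.respectTransparency false
set_option backward.isDefEq.respectTransparency.types false

universe u
open CategoryTheory CategoryTheory.Limits AlgebraicGeometry

noncomputable section

namespace Groth.Agent.HilbDLib

variable {X S : Scheme.{u}} (f : X ⟶ S)

theorem isPullback_succ (n : ℕ) :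
    IsPullback
      (WidePullback.lift (WidePullback.base _) (fun i : Fin n => WidePullback.π (fun _ : Fin (n + 1) => f) i.castSucc)
        fun i => WidePullback.π_arrow _ _)
      (WidePullback.π (fun _ : Fin (n + 1) => f) (Fin.last n)) (WidePullback.base fun _ : Fin n => f) f := by
  refine IsPullback.of_isLimit' ⟨by rw [WidePullback.lift_base, WidePullback.π_arrow]⟩ (PullbackCone.IsLimit.mk _
    (fun s => WidePullback.lift (s.fst ≫ WidePullback.base _)
      (Fin.snoc (fun i : Fin n => s.fst ≫ WidePullback.π (fun _ : Fin n => f) i) s.snd) ?_)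
    (fun s => ?_) (fun s => ?_) fun s w h1 h2 => ?_)
  · intro i
    refine Fin.lastCases ?_ (fun i => ?_) i
    · rw [Fin.snoc_last]; exact s.condition.symm
    · rw [Fin.snoc_castSucc, Category.assoc, WidePullback.π_arrow]
  · refine WidePullback.hom_ext _ _ _ (fun i => ?_) ?_
    · rw [Category.assoc, WidePullback.lift_π, WidePullback.lift_π, Fin.snoc_castSucc]
    · rw [Category.assoc, WidePullback.lift_base, WidePullback.lift_base]
  · rw [WidePullback.lift_π, Fin.snoc_last]
  · refine WidePullback.hom_ext _ _ _ (fun i => ?_) ?_
    · rw [WidePullback.lift_π]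
      refine Fin.lastCases ?_ (fun i => ?_) i
      · rw [Fin.snoc_last, ← h2]
      · rw [Fin.snoc_castSucc, ← h1, Category.assoc, WidePullback.lift_π]
    · rw [WidePullback.lift_base, ← h1, Category.assoc, WidePullback.lift_base]

theorem smooth_powBase [Smooth f] (n : ℕ) : Smooth (WidePullback.base fun _ : Fin n => f) := by
  induction n with
  | zero =>
    haveI : IsIso (WidePullback.base fun _ : Fin 0 => f) :=
      ⟨WidePullback.lift (𝟙 S) (fun i => Fin.elim0 i) fun i => Fin.elim0 i,
        WidePullback.hom_ext _ _ _ (fun i => Fin.elim0 i)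
          (by rw [Category.assoc, WidePullback.lift_base, Category.comp_id, Category.id_comp]),
        WidePullback.lift_base _ _ _ _⟩
    infer_instance
  | succ n ih =>
    haveI := ih
    have h := isPullback_succ f n
    haveI : Smooth (WidePullback.lift (WidePullback.base _)
        (fun i : Fin n => WidePullback.π (fun _ : Fin (n + 1) => f) i.castSucc)
        fun i => WidePullback.π_arrow _ _ : SymProd.fibPow f (n + 1) ⟶ SymProd.fibPow f n) :=
      MorphismProperty.of_isPullback (P := @Smooth) h.flip inferInstance
    have e : (WidePullback.base fun _ : Fin (n + 1) => f) = (WidePullback.lift (WidePullback.base _)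
        (fun i : Fin n => WidePullback.π (fun _ : Fin (n + 1) => f) i.castSucc)
        fun i => WidePullback.π_arrow _ _ : SymProd.fibPow f (n + 1) ⟶ SymProd.fibPow f n) ≫
          WidePullback.base fun _ : Fin n => f := (WidePullback.lift_base _ _ _ _).symm
    rw [e]
    infer_instance

theorem isProper_powBase [IsProper f] (n : ℕ) : IsProper (WidePullback.base fun _ : Fin n => f) := by
  induction n with
  | zero =>
    haveI : IsIso (WidePullback.base fun _ : Fin 0 => f) :=
      ⟨WidePullback.lift (𝟙 S) (fun i => Fin.elim0 i) fun i => Fin.elim0 i,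
        WidePullback.hom_ext _ _ _ (fun i => Fin.elim0 i)
          (by rw [Category.assoc, WidePullback.lift_base, Category.comp_id, Category.id_comp]),
        WidePullback.lift_base _ _ _ _⟩
    infer_instance
  | succ n ih =>
    haveI := ih
    have h := isPullback_succ f n
    haveI : IsProper (WidePullback.lift (WidePullback.base _)
        (fun i : Fin n => WidePullback.π (fun _ : Fin (n + 1) => f) i.castSucc)
        fun i => WidePullback.π_arrow _ _ : SymProd.fibPow f (n + 1) ⟶ SymProd.fibPow f n) :=
      MorphismProperty.of_isPullback (P := @IsProper) h.flip inferInstance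
    have e : (WidePullback.base fun _ : Fin (n + 1) => f) = (WidePullback.lift (WidePullback.base _)
        (fun i : Fin n => WidePullback.π (fun _ : Fin (n + 1) => f) i.castSucc)
        fun i => WidePullback.π_arrow _ _ : SymProd.fibPow f (n + 1) ⟶ SymProd.fibPow f n) ≫
          WidePullback.base fun _ : Fin n => f := (WidePullback.lift_base _ _ _ _).symm
    rw [e]
    infer_instance

theorem surjective_of_factorial {n : ℕ} {A B : Scheme.{u}} {m : A ⟶ B}
    (h : Mor2.IsFinLocFreeOfDeg n.factorial m) : Surjective m := by
  obtain ⟨⟨h1, h2, h3⟩, hd⟩ := h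
  haveI := h1; haveI := h2; haveI := h3
  exact (Scheme.Hom.one_le_finrank_iff_surjective m).1 fun y => by
    rw [hd]; exact n.factorial_pos

variable [IsSeparated f] [SmoothOfRelativeDimension 1 f]

/-- **The Hilbert scheme of points of a smooth curve is smooth.** -/
theorem smooth_hilb (hrep : ∀ e : ℕ, HilbD.Representable f e) {n : ℕ} {H : Over S} {Z : HilbD.Obj f n H}
    (hZ : HilbD.IsUniversal f n H Z) : Smooth H.hom := by
  obtain ⟨m, -, hm⟩ := exists_powOver_map f hrep n hZ
  haveI := surjective_of_factorial hm
  obtain ⟨⟨h1, h2, h3⟩, -⟩ := hm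
  haveI := h1; haveI := h2; haveI := h3
  haveI : Smooth f := SmoothOfRelativeDimension.smooth (n := 1) _
  haveI : Smooth (powOver f n).hom := smooth_powBase f n
  haveI : Smooth (m.left ≫ H.hom) := by rw [Over.w m]; infer_instance
  exact SrcDescent.smooth_of_fppf_comp m.left H.hom

end Groth.Agent.HilbDLib
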