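import Groth.Agent.HilbDLib.InvAlg
import Groth.Agent.HilbDLib.SmoothHilb
import Groth.Agent.SGA1Q.Affine
import Groth.Agent.SGA1Q.Orbits
import Groth.Agent.SmoothCrit.Sch
import Groth.Agent.GrpSchLib.SmoothReduced
import Mathlib.AlgebraicGeometry.AlgClosed.Basic
import Mathlib.AlgebraicGeometry.Morphisms.UniversallyOpen
import Mathlib.AlgebraicGeometry.Morphisms.FlatRank

/-!
# Over an algebraically closed field, a symmetric finite flat map of degree `n!` is the quotient
-/

set_option autoImplicit false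
set_option maxHeartbeats 1000000
set_option linter.style.haveILetI false
set_option backward.isDefEq.respectTransparency false
set_option backward.isDefEq.respectTransparency.types false

universe u
open CategoryTheory CategoryTheory.Limits AlgebraicGeometry TopologicalSpace
open SymProd

noncomputable section

namespace Groth.Agent.HilbDLib

variable {K : Type u} [Field K] [IsAlgClosed K] {X : Scheme.{u}} (f : X ⟶ Spec (CommRingCat.of K))
  [SmoothOfRelativeDimension 1 f]

omit [IsAlgClosed K] in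
include f in
/-- A curve has no open point. -/
theorem not_isOpen_singleton (x : X) : ¬ IsOpen ({x} : Set X) := by
  intro ho
  haveI : Smooth f := SmoothOfRelativeDimension.smooth (n := 1) _
  let V : X.Opens := ⟨{x}, ho⟩
  haveI : Nonempty (V : Scheme.{u}) := ⟨⟨x, rfl⟩⟩
  haveI : Subsingleton (V : Scheme.{u}) := ⟨fun a b => Subtype.ext (a.2.trans b.2.symm)⟩
  haveI : IrreducibleSpace (V : Scheme.{u}) :=
    { toPreirreducibleSpace := ⟨fun u v _ _ ⟨a, ha⟩ ⟨b, hb⟩ => ⟨a, ha.1, ha.2, by
        rw [Subsingleton.elim a b]; exact hb.2⟩⟩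
      toNonempty := inferInstance }
  haveI : SmoothOfRelativeDimension 1 (𝟙 (V : Scheme.{u}) ≫ V.ι ≫ f) := by
    rw [Category.id_comp]
    exact IsZariskiLocalAtSource.comp (P := @SmoothOfRelativeDimension 1) ‹_› _
  have h := SmoothCrit.eq_dim (V.ι ≫ f) (𝟙 _) 1
  have h0 := topologicalKrullDim_zero_of_discreteTopology (V : Scheme.{u})
  rw [h] at h0
  exact absurd h0 (by decide)

/-- Every nonempty open of the fibre power contains a rational point with distinct coordinates. -/
theorem exists_point_injective (n : ℕ) (O : (fibPow f n).Opens) (hO : (O : Set (fibPow f n)).Nonempty) :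
    ∃ z : Spec (CommRingCat.of K) ⟶ fibPow f n, z ≫ WidePullback.base (fun _ => f) = 𝟙 _ ∧
      Function.Injective (fun i => z ≫ WidePullback.π (fun _ => f) i) ∧ z (IsLocalRing.closedPoint K) ∈ O := by
  classical
  haveI : Smooth f := SmoothOfRelativeDimension.smooth (n := 1) _
  haveI : Subsingleton ↥(Spec (CommRingCat.of K)) := inferInstanceAs (Subsingleton (PrimeSpectrum K))
  induction n with
  | zero =>
    let z : Spec (CommRingCat.of K) ⟶ fibPow f 0 :=
      WidePullback.lift (𝟙 _) (fun i => Fin.elim0 i) fun i => Fin.elim0 i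
    haveI : IsIso (WidePullback.base fun _ : Fin 0 => f) := ⟨z,
      WidePullback.hom_ext _ _ _ (fun i => Fin.elim0 i)
        (by rw [Category.assoc, WidePullback.lift_base, Category.comp_id, Category.id_comp]),
      WidePullback.lift_base _ _ _ _⟩
    obtain ⟨y, hy⟩ := hO
    refine ⟨z, WidePullback.lift_base _ _ _ _, fun i => Fin.elim0 i, ?_⟩
    have : Function.Injective (WidePullback.base fun _ : Fin 0 => f) :=
      (WidePullback.base fun _ : Fin 0 => f).isOpenEmbedding.injective
    rwa [this (a₁ := z (IsLocalRing.closedPoint K)) (a₂ := y) (Subsingleton.elim _ _)]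
  | succ n ih =>
    let ini : fibPow f (n + 1) ⟶ fibPow f n :=
      WidePullback.lift (WidePullback.base _) (fun i => WidePullback.π (fun _ : Fin (n + 1) => f) i.castSucc)
        fun i => WidePullback.π_arrow _ _
    have hsq := isPullback_succ f n
    haveI : Smooth ini := MorphismProperty.of_isPullback (P := @Smooth) hsq.flip inferInstance
    haveI : UniversallyOpen ini := UniversallyOpen.of_flat ini
    let O' : (fibPow f n).Opens := ⟨ini '' O, ini.isOpenMap _ O.2⟩
    obtain ⟨z0, hz0, hinj0, y, hyO, hy⟩ := ih O' (hO.image _)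
    -- the fibre of the projection over `z0`
    let F : X ⟶ fibPow f (n + 1) := hsq.lift (f ≫ z0) (𝟙 X) (by
      rw [Category.assoc, hz0, Category.comp_id, Category.id_comp])
    have hF1 : F ≫ ini = f ≫ z0 := hsq.lift_fst _ _ _
    have hF2 : F ≫ WidePullback.π (fun _ : Fin (n + 1) => f) (Fin.last n) = 𝟙 X := hsq.lift_snd _ _ _
    have hFsq : IsPullback F f ini z0 :=
      IsPullback.of_right (h₁₂ := WidePullback.π (fun _ : Fin (n + 1) => f) (Fin.last n)) (v₁₃ := f)
        (h₂₂ := WidePullback.base fun _ : Fin n => f)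
        (by rw [hF2, hz0]; exact IsPullback.id_horiz f) hF1 hsq.flip
    obtain ⟨w, hw⟩ : ∃ w : X, F w = y := by
      have hr : y ∈ Set.range (pullback.fst ini z0) := by
        rw [Scheme.Pullback.range_fst]
        exact ⟨_, hy.symm⟩
      obtain ⟨a, rfl⟩ := hr
      refine ⟨hFsq.isoPullback.inv a, ?_⟩
      rw [← Scheme.Hom.comp_apply, hFsq.isoPullback_inv_fst]
    -- avoid the coordinates of `z0`
    let T : Set X := Set.range fun i : Fin n => (z0 ≫ WidePullback.π (fun _ : Fin n => f) i) (IsLocalRing.closedPoint K)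
    have hTc : ∀ t ∈ T, IsClosed ({t} : Set X) := by
      rintro _ ⟨i, rfl⟩
      have hsec : (z0 ≫ WidePullback.π (fun _ : Fin n => f) i) ≫ f = 𝟙 _ := by
        rw [Category.assoc, WidePullback.π_arrow, hz0]
      exact ((pointEquivClosedPoint f) ⟨_, hsec⟩).2
    have hTf : T.Finite := Set.finite_range _
    have hWne : (((F ⁻¹ᵁ O : X.Opens) : Set X) \ T).Nonempty := by
      by_contra hne
      rw [Set.not_nonempty_iff_eq_empty, Set.sdiff_eq_empty] at hne
      have hwO : w ∈ F ⁻¹ᵁ O := show F w ∈ O by rw [hw]; exact hyO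
      refine not_isOpen_singleton f w ?_
      have e : ({w} : Set X) = ((F ⁻¹ᵁ O : X.Opens) : Set X) \ (T \ {w}) := by
        ext t
        refine ⟨fun ht => ?_, fun ht => by_contra fun h => ht.2 ⟨hne ht.1, h⟩⟩
        rw [Set.mem_singleton_iff.1 ht]
        exact ⟨hwO, fun h => h.2 rfl⟩
      rw [e]
      refine (F ⁻¹ᵁ O).2.sdiff ?_
      rw [← Set.biUnion_of_singleton (T \ {w})]
      exact (hTf.sdiff).isClosed_biUnion fun t ht => hTc t ht.1
    have hTcl : IsClosed T := by
      rw [← Set.biUnion_of_singleton T]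
      exact hTf.isClosed_biUnion hTc
    haveI : JacobsonSpace ↥X := LocallyOfFiniteType.jacobsonSpace f
    obtain ⟨x, ⟨hxO, hxT⟩, hxc⟩ :=
      nonempty_inter_closedPoints hWne ((F ⁻¹ᵁ O).2.sdiff hTcl).isLocallyClosed
    let xp := pointOfClosedPoint f x hxc
    have hxp : xp ≫ f = 𝟙 _ := pointOfClosedPoint_comp f x hxc
    refine ⟨xp ≫ F, ?_, ?_, ?_⟩
    · have e : ini ≫ WidePullback.base (fun _ : Fin n => f) = WidePullback.base fun _ : Fin (n + 1) => f :=
        WidePullback.lift_base _ _ _ _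
      rw [← e, Category.assoc, reassoc_of% hF1, hz0, Category.comp_id, hxp]
    · have h1 : ∀ i : Fin n, (xp ≫ F) ≫ WidePullback.π (fun _ : Fin (n + 1) => f) i.castSucc =
          z0 ≫ WidePullback.π (fun _ : Fin n => f) i := fun i => by
        have e : ini ≫ WidePullback.π (fun _ : Fin n => f) i = WidePullback.π (fun _ : Fin (n + 1) => f) i.castSucc :=
          WidePullback.lift_π _ _ _ _ i
        rw [← e, Category.assoc, reassoc_of% hF1, reassoc_of% hxp]
      have h2 : (xp ≫ F) ≫ WidePullback.π (fun _ : Fin (n + 1) => f) (Fin.last n) = xp := by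
        rw [Category.assoc, hF2, Category.comp_id]
      intro i j hij
      refine Fin.lastCases ?_ (fun i => ?_) i j hij <;> intro j <;> refine Fin.lastCases ?_ (fun j => ?_) j
      · exact fun _ => rfl
      · intro e
        simp only [h1, h2] at e
        exact absurd ⟨j, (congrArg (fun g : Spec (CommRingCat.of K) ⟶ X => g (IsLocalRing.closedPoint K)) e.symm).trans
          (pointOfClosedPoint_apply f x hxc _)⟩ hxT
      · intro e
        simp only [h1, h2] at e
        exact absurd ⟨i, (congrArg (fun g : Spec (CommRingCat.of K) ⟶ X => g (IsLocalRing.closedPoint K)) e).trans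
          (pointOfClosedPoint_apply f x hxc _)⟩ hxT
      · intro e
        simp only [h1] at e
        rw [hinj0 e]
    · rw [Scheme.Hom.comp_apply, pointOfClosedPoint_apply]
      exact hxO

variable {H : Scheme.{u}} (hH : H ⟶ Spec (CommRingCat.of K)) [Smooth hH] {n : ℕ}

include hH in
/-- **A symmetric finite locally free map of degree `n!` from the fibre power is the quotient.** -/
theorem isQuot_of_finLocFree_field (m : fibPow f n ⟶ H) (hm : Mor2.IsFinLocFreeOfDeg n.factorial m)
    (hinv : ∀ σ, permHom f n σ ≫ m = m) : SGA1.IsQuot (permActU f n) m := by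
  classical
  haveI := surjective_of_factorial hm
  obtain ⟨⟨h1, h2, h3⟩, hrk⟩ := hm
  haveI := h1; haveI := h2; haveI := h3
  haveI : AlgebraicGeometry.IsReduced H := GrpSchLib.isReduced_of_smooth_field hH
  have hinv' : ∀ g, (permActU f n g).hom ≫ m = m := fun g => by rw [permActU_hom]; exact hinv _
  refine SGA1Q.isQuot_of_affine_cover inferInstance hinv' fun y => ?_
  obtain ⟨U, hU, hyU, -⟩ := exists_isAffineOpen_mem_and_subset (x := y) (U := ⊤) trivial
  have hV : IsAffineOpen (m ⁻¹ᵁ U) := hU.preimage m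
  letI : Algebra Γ(H, U) Γ(fibPow f n, m ⁻¹ᵁ U) := (m.app U).hom.toAlgebra
  have hfin : Module.Finite Γ(H, U) Γ(fibPow f n, m ⁻¹ᵁ U) := IsFinite.finite_app (f := m) U hU
  haveI := hfin
  have hfl : (m.app U).hom.Flat := by
    rw [← Scheme.Hom.appLE_eq_app]
    exact HasRingHomProperty.appLE @Flat m inferInstance ⟨U, hU⟩ ⟨_, hV⟩ le_rfl
  haveI : Module.Flat Γ(H, U) Γ(fibPow f n, m ⁻¹ᵁ U) := RingHom.flat_algebraMap_iff.1 hfl
  have hfp : (m.app U).hom.FinitePresentation := by
    rw [← Scheme.Hom.appLE_eq_app]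
    exact HasRingHomProperty.appLE @LocallyOfFinitePresentation m inferInstance ⟨U, hU⟩ ⟨_, hV⟩ le_rfl
  haveI : Algebra.FinitePresentation Γ(H, U) Γ(fibPow f n, m ⁻¹ᵁ U) := hfp
  haveI : Module.FinitePresentation Γ(H, U) Γ(fibPow f n, m ⁻¹ᵁ U) :=
    Module.FinitePresentation.of_finite_of_finitePresentation ..
  haveI : Module.Projective Γ(H, U) Γ(fibPow f n, m ⁻¹ᵁ U) := Module.Flat.projective_of_finitePresentation
  let ψ := CommRingCat.ofHom (algebraMap Γ(H, U) Γ(fibPow f n, m ⁻¹ᵁ U))
  have hψ : ψ = m.app U := rfl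
  have hsp : Spec.map ψ ≫ hU.fromSpec = hV.fromSpec ≫ m := by
    rw [hψ, ← Scheme.Hom.appLE_eq_app]
    exact IsAffineOpen.SpecMap_appLE_fromSpec m hU hV le_rfl
  have hpb : IsPullback hV.fromSpec (Spec.map ψ) m hU.fromSpec := by
    refine (IsOpenImmersion.isPullback (Spec.map ψ) hV.fromSpec hU.fromSpec m hsp.symm ?_).flip
    rw [hU.opensRange_fromSpec, hV.opensRange_fromSpec]
  have hs : Function.Surjective (PrimeSpectrum.comap (algebraMap Γ(H, U) Γ(fibPow f n, m ⁻¹ᵁ U))) := by
    haveI : Surjective (Spec.map ψ) := MorphismProperty.of_isPullback (P := @Surjective) hpb inferInstance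
    exact (Spec.map ψ).surjective
  have hN : ∀ p, Module.rankAtStalk (R := Γ(H, U)) Γ(fibPow f n, m ⁻¹ᵁ U) p = n.factorial := fun p => by
    rw [← Scheme.Hom.finrank_SpecMap_algebraMap, Scheme.Hom.finrank_of_isPullback _ _ _ _ hpb, hrk]
  refine ⟨U, hU, hyU, algebraMap_injective_of_surjective hs, fun s hs' => ?_⟩
  refine mem_range_of_characters (K := K) hs
    {ε | ∃ φ : Γ(fibPow f n, m ⁻¹ᵁ U) ⟶ CommRingCat.of K,
      Function.Injective (fun i => (Spec.map φ ≫ hV.fromSpec) ≫ WidePullback.π (fun _ => f) i) ∧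
        ε = (ψ ≫ φ).hom} (fun a ha => ?_) n.factorial hN s ?_
  · by_contra ha0
    have hne : (H.basicOpen a : Set H).Nonempty := by
      rw [Set.nonempty_iff_ne_empty]
      intro he
      exact ha0 ((basicOpen_eq_bot_iff a).1 (Opens.ext he))
    obtain ⟨h, hh⟩ := hne
    obtain ⟨w, rfl⟩ := m.surjective h
    obtain ⟨z, -, hzi, hz⟩ := exists_point_injective f n (m ⁻¹ᵁ H.basicOpen a) ⟨w, hh⟩
    haveI : Subsingleton ↥(Spec (CommRingCat.of K)) := inferInstanceAs (Subsingleton (PrimeSpectrum K))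
    have hran : Set.range z ⊆ Set.range hV.fromSpec := by
      rintro _ ⟨t, rfl⟩
      rw [hV.range_fromSpec, Subsingleton.elim t (IsLocalRing.closedPoint K)]
      exact H.basicOpen_le a hz
    obtain ⟨φ, hφ⟩ := Spec.map_surjective (IsOpenImmersion.lift hV.fromSpec z hran)
    have hzφ : Spec.map φ ≫ hV.fromSpec = z := by rw [hφ, IsOpenImmersion.lift_fac]
    have hε := ha (ψ ≫ φ).hom ⟨φ, by simp only [hzφ]; exact hzi, rfl⟩
    have hmem : Spec.map φ (IsLocalRing.closedPoint K) ∈ PrimeSpectrum.basicOpen (m.app U a) := by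
      rw [← hV.fromSpec_preimage_basicOpen]
      show hV.fromSpec (Spec.map φ (IsLocalRing.closedPoint K)) ∈ (fibPow f n).basicOpen _
      rw [← Scheme.Hom.comp_apply, hzφ, ← Scheme.preimage_basicOpen]
      exact hz
    exact hmem (show φ.hom (m.app U a) ∈ IsLocalRing.maximalIdeal K by
      rw [show φ.hom (m.app U a) = (ψ ≫ φ).hom a from rfl, hε]; exact zero_mem _)
  · rintro _ ⟨φ, hφ, rfl⟩
    let P : Equiv.Perm (Fin n) → (Γ(fibPow f n, m ⁻¹ᵁ U) ⟶ Γ(fibPow f n, m ⁻¹ᵁ U)) := fun σ =>
      (permHom f n σ).appLE (m ⁻¹ᵁ U) (m ⁻¹ᵁ U) (by rw [← Scheme.Hom.comp_preimage, hinv])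
    have hP : ∀ σ, Spec.map (P σ) ≫ hV.fromSpec = hV.fromSpec ≫ permHom f n σ := fun σ =>
      IsAffineOpen.SpecMap_appLE_fromSpec _ hV hV _
    refine ⟨Equiv.Perm (Fin n), inferInstance, fun σ => (P σ ≫ φ).hom, φ.hom s, ?_, ?_, ?_, ?_⟩
    · rw [Fintype.card_perm, Fintype.card_fin]
    · intro σ τ hστ
      have e : Spec.map (P σ ≫ φ) ≫ hV.fromSpec = Spec.map (P τ ≫ φ) ≫ hV.fromSpec := by
        rw [CommRingCat.hom_ext hστ]
      rw [Spec.map_comp, Spec.map_comp, Category.assoc, Category.assoc, hP, hP] at e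
      refine Equiv.symm_bijective.injective (Equiv.ext fun i => hφ ?_)
      have e' := congrArg (· ≫ WidePullback.π (fun _ => f) i) e
      simpa only [Category.assoc, permHom_π] using e'
    · intro σ
      refine congrArg CommRingCat.Hom.hom (?_ : ψ ≫ P σ ≫ φ = ψ ≫ φ)
      rw [← Category.assoc]
      refine congrArg (· ≫ φ) ?_
      apply Spec.map_injective
      rw [Spec.map_comp, ← cancel_mono hU.fromSpec, Category.assoc, hsp, reassoc_of% hP, hinv]
    · intro σ
      have := hs' ⟨σ⟩
      exact congrArg φ.hom this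

end Groth.Agent.HilbDLib
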