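import Groth.Agent.HilbDLib.AddPoint
import Groth.Agent.HilbDLib.DegComp
import Groth.Prelude.Def_SymProd

/-!
# Fibre powers of a curve over the Hilbert scheme of points
-/

set_option autoImplicit false
set_option maxHeartbeats 1000000
set_option linter.style.haveILetI false
set_option backward.isDefEq.respectTransparency false
set_option backward.isDefEq.respectTransparency.types false

universe u
open CategoryTheory CategoryTheory.Limits AlgebraicGeometry

noncomputable section

namespace Groth.Agent.HilbDLib

variable {X S : Scheme.{u}} (f : X ⟶ S)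

/-- The fibre power as an object over the base. -/
abbrev powOver (n : ℕ) : Over S := Over.mk (WidePullback.base fun _ : Fin n => f)

/-- The ideal of the sum of finitely many points. -/
def sumSec {n : ℕ} (T : Over S) (x : Fin n → (T ⟶ Over.mk f)) : (PicF.XT f T).IdealSheafData :=
  ∏ i, (sec f T (x i).left (Over.w (x i))).ker

/-- The tautological points of the fibre power. -/
def tautPt (n : ℕ) (i : Fin n) : powOver f n ⟶ Over.mk f :=
  Over.homMk (WidePullback.π (fun _ : Fin n => f) i) (WidePullback.π_arrow _ i)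

theorem sumSec_congr {n : ℕ} {T : Over S} {x y : Fin n → (T ⟶ Over.mk f)} (h : ∀ i, (x i).left = (y i).left) :
    sumSec f T x = sumSec f T y := by
  rw [show x = y from funext fun i => Over.OverMorphism.ext (h i)]

theorem finrank_of_isEmpty {W V : Scheme.{u}} (w : W ⟶ V) [IsEmpty W] [IsFinite w] [Flat w] (v : V) :
    w.finrank v = 0 := by
  obtain ⟨R, g, _, p, rfl⟩ := V.exists_Spec_apply_eq v
  rw [← Scheme.Hom.finrank_pullback_snd]
  haveI : IsEmpty ↥(pullback w g) := Function.isEmpty (pullback.fst w g)
  haveI : IsAffine (pullback w g) := isAffine_of_isAffineHom (pullback.snd w g)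
  obtain ⟨φ, hφ⟩ := Spec.map_surjective ((pullback w g).isoSpec.inv ≫ pullback.snd w g)
  rw [← Scheme.Hom.finrank_comp_left_of_isIso (pullback w g).isoSpec.inv, ← hφ]
  have hFf : IsFinite (Spec.map φ) := by rw [hφ]; infer_instance
  have hLf : Flat (Spec.map φ) := by rw [hφ]; infer_instance
  letI : Algebra R Γ(pullback w g, ⊤) := φ.hom.toAlgebra
  haveI : Module.Finite R Γ(pullback w g, ⊤) := RingHom.finite_algebraMap.1 ((IsFinite.SpecMap_iff φ).1 hFf)
  haveI : Module.Flat R Γ(pullback w g, ⊤) := RingHom.flat_algebraMap_iff.1 (Flat.SpecMap_iff.1 hLf)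
  haveI : Subsingleton Γ(pullback w g, ⊤) := inferInstance
  have h := Scheme.Hom.finrank_SpecMap_algebraMap R Γ(pullback w g, ⊤) p
  rw [Module.rankAtStalk_eq_zero_of_subsingleton] at h
  exact h

theorem finLocFreeOfDeg_top {T : Over S} :
    Mor2.IsFinLocFreeOfDeg 0 ((⊤ : (PicF.XT f T).IdealSheafData).subschemeι ≫ PicF.XTproj f T) := by
  haveI : IsEmpty ↥((⊤ : (PicF.XT f T).IdealSheafData).subscheme) := by
    refine ⟨fun z => ?_⟩
    have := Set.mem_range_self (f := (⊤ : (PicF.XT f T).IdealSheafData).subschemeι) z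
    rw [Scheme.IdealSheafData.range_subschemeι, Scheme.IdealSheafData.support_top] at this
    exact this
  haveI : IsFinite ((⊤ : (PicF.XT f T).IdealSheafData).subschemeι ≫ PicF.XTproj f T) := inferInstance
  haveI : Flat ((⊤ : (PicF.XT f T).IdealSheafData).subschemeι ≫ PicF.XTproj f T) :=
    Flat.of_stalkMap _ fun z => isEmptyElim z
  haveI : LocallyOfFinitePresentation ((⊤ : (PicF.XT f T).IdealSheafData).subschemeι ≫ PicF.XTproj f T) :=
    inferInstance
  refine ⟨⟨inferInstance, inferInstance, inferInstance⟩, fun t => ?_⟩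
  exact finrank_of_isEmpty _ t

theorem eq_top_of_deg_zero {T : Over S} (I : HilbD.Obj f 0 T) : I.1 = ⊤ := by
  obtain ⟨⟨h1, h2, h3⟩, hd⟩ := I.2
  haveI := h1; haveI := h2; haveI := h3
  haveI : IsEmpty ↥I.1.subscheme := ⟨fun z => by
    have := Scheme.Hom.one_le_finrank_map (I.1.subschemeι ≫ PicF.XTproj f T) z
    rw [hd] at this
    omega⟩
  rw [← Scheme.IdealSheafData.support_eq_bot_iff]
  exact TopologicalSpace.Closeds.ext (by rw [← Scheme.IdealSheafData.range_subschemeι]; exact Set.range_eq_empty _)

variable [IsSeparated f]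

theorem pull_sumSec {n : ℕ} {T T' : Over S} (g : T' ⟶ T) (x : Fin n → (T ⟶ Over.mk f)) :
    HilbD.pull f g (sumSec f T x) = sumSec f T' fun i => g ≫ x i := by
  induction n with
  | zero => simp [sumSec, pull_eq_comap, Scheme.IdealSheafData.one_eq_top, Scheme.IdealSheafData.comap_top]
  | succ n ih =>
    simp only [sumSec, Fin.prod_univ_castSucc, pull_mul, pull_sec]
    have h := ih fun i => x i.castSucc
    simp only [sumSec] at h
    rw [h]
    rfl

variable [SmoothOfRelativeDimension 1 f]

theorem finLocFreeOfDeg_sumSec {n : ℕ} (T : Over S) (x : Fin n → (T ⟶ Over.mk f)) :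
    Mor2.IsFinLocFreeOfDeg n ((sumSec f T x).subschemeι ≫ PicF.XTproj f T) := by
  induction n with
  | zero =>
    rw [show sumSec f T x = ⊤ by simp [sumSec, Scheme.IdealSheafData.one_eq_top]]
    exact finLocFreeOfDeg_top f
  | succ n ih =>
    haveI := smoothOfRelativeDimension_isStableUnderBaseChange 1
    haveI : SmoothOfRelativeDimension 1 (PicF.XTproj f T) :=
      MorphismProperty.pullback_snd (P := @SmoothOfRelativeDimension 1) f T.hom inferInstance
    rw [show sumSec f T x = sumSec f T (fun i : Fin n => x i.castSucc) * (sec f T (x (Fin.last n)).left (Over.w _)).ker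
      from Fin.prod_univ_castSucc _]
    exact RelCurve.add (PicF.XTproj f T) (ih _) (finLocFreeOfDeg_sec f _ _)

/-- The sum of points as a member of the Hilbert functor. -/
def sumObj {n : ℕ} (T : Over S) (x : Fin n → (T ⟶ Over.mk f)) : HilbD.Obj f n T :=
  ⟨sumSec f T x, finLocFreeOfDeg_sumSec f T x⟩

variable (hrep : ∀ e : ℕ, HilbD.Representable f e)

include hrep in
/-- **The fibre power is finite locally free of degree `n!` over the Hilbert scheme.** -/
theorem powOver_finLocFree (n : ℕ) :
    ∀ (H : Over S) (Z : HilbD.Obj f n H), HilbD.IsUniversal f n H Z →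
      ∀ (m : powOver f n ⟶ H), HilbD.pull f m Z.1 = sumSec f (powOver f n) (tautPt f n) →
        Mor2.IsFinLocFreeOfDeg n.factorial m.left := by
  induction n with
  | zero =>
    intro H Z hZ m hm
    let i : H.left ⟶ (powOver f 0).left := WidePullback.lift H.hom (fun i => Fin.elim0 i) fun i => Fin.elim0 i
    let ii : H ⟶ powOver f 0 := Over.homMk i (WidePullback.lift_base _ _ _ _)
    have h1 : m.left ≫ i = 𝟙 _ := by
      refine WidePullback.hom_ext _ _ _ (fun i => Fin.elim0 i) ?_
      rw [Category.assoc, WidePullback.lift_base, Category.id_comp]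
      exact Over.w m
    have h2 : ii ≫ m = 𝟙 H := (hZ H ⟨_, isFinLocFreeOfDeg_pull f (𝟙 H) Z.1 Z.2⟩).unique
      ((eq_top_of_deg_zero f ⟨_, isFinLocFreeOfDeg_pull f (ii ≫ m) Z.1 Z.2⟩).trans
        (eq_top_of_deg_zero f ⟨_, isFinLocFreeOfDeg_pull f (𝟙 H) Z.1 Z.2⟩).symm) rfl
    haveI : IsIso m.left := ⟨i, h1, congrArg CommaMorphism.left h2⟩
    exact ⟨⟨inferInstance, inferInstance, inferInstance⟩, congrFun (Scheme.Hom.finrank_eq_one_of_isIso _)⟩
  | succ n ih =>
    intro H' Z' hZ' m' hm'
    obtain ⟨H, Z, hZ⟩ := hrep n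
    obtain ⟨μn, hμn, -⟩ := hZ (powOver f n) (sumObj f _ (tautPt f n))
    let P : Over S := Over.mk (pullback.fst H.hom f ≫ H.hom)
    let π : P ⟶ H := Over.homMk (pullback.fst H.hom f) rfl
    let x : P ⟶ Over.mk f := Over.homMk (pullback.snd H.hom f) pullback.condition.symm
    haveI := smoothOfRelativeDimension_isStableUnderBaseChange 1
    haveI : SmoothOfRelativeDimension 1 (PicF.XTproj f P) :=
      MorphismProperty.pullback_snd (P := @SmoothOfRelativeDimension 1) f P.hom inferInstance
    obtain ⟨m, hm, -⟩ := hZ' P ⟨HilbD.pull f π Z.1 * (sec f P x.left (Over.w x)).ker,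
      RelCurve.add (PicF.XTproj f P) (isFinLocFreeOfDeg_pull f π Z.1 Z.2) (finLocFreeOfDeg_sec f _ _)⟩
    obtain ⟨e, he⟩ := addPoint f hZ hZ' m hm
    obtain ⟨⟨hfin, hflat, hlfp⟩, hrk⟩ := Z'.2
    haveI := hfin; haveI := hflat; haveI := hlfp
    have hmdeg : Mor2.IsFinLocFreeOfDeg (n + 1) m.left := by
      rw [he]
      refine ⟨⟨inferInstance, inferInstance, inferInstance⟩, fun y => ?_⟩
      rw [Scheme.Hom.finrank_comp_left_of_isIso]
      exact hrk y
    -- the first n points and the last one
    let ini : (powOver f (n + 1)).left ⟶ (powOver f n).left :=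
      WidePullback.lift (WidePullback.base _) (fun i => WidePullback.π (fun _ : Fin (n + 1) => f) i.castSucc)
        fun i => WidePullback.π_arrow _ _
    let iniO : powOver f (n + 1) ⟶ powOver f n := Over.homMk ini (WidePullback.lift_base _ _ _ _)
    let t : (powOver f (n + 1)).left ⟶ P.left :=
      pullback.lift (ini ≫ μn.left) (WidePullback.π (fun _ : Fin (n + 1) => f) (Fin.last n)) (by
        rw [Category.assoc, Over.w μn, WidePullback.π_arrow]
        exact Over.w iniO)
    let tO : powOver f (n + 1) ⟶ P := Over.homMk t (by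
      show t ≫ pullback.fst H.hom f ≫ H.hom = _
      rw [← Category.assoc, pullback.lift_fst, Category.assoc, Over.w μn]
      exact Over.w iniO)
    have ht1 : tO ≫ π = iniO ≫ μn := Over.OverMorphism.ext (pullback.lift_fst _ _ _)
    have hm'eq : m' = tO ≫ m := by
      refine (hZ' (powOver f (n + 1)) (sumObj f _ (tautPt f (n + 1)))).unique hm' ?_
      show HilbD.pull f (tO ≫ m) Z'.1 = sumSec f _ (tautPt f (n + 1))
      rw [← pull_pull, hm, pull_mul, pull_pull, ht1, ← pull_pull, hμn, pull_sec]
      show HilbD.pull f iniO (sumSec f _ (tautPt f n)) * _ = _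
      rw [pull_sumSec]
      simp only [sumSec]
      rw [Fin.prod_univ_castSucc]
      refine congrArg₂ (· * ·) (Finset.prod_congr rfl fun i _ => ?_) ?_
      · exact congrArg Scheme.Hom.ker (sec_congr f (WidePullback.lift_π _ _ _ _ i) _ _)
      · exact congrArg Scheme.Hom.ker (sec_congr f (pullback.lift_snd _ _ _) _ _)
    have hsq : IsPullback t ini (pullback.fst H.hom f) μn.left := by
      refine IsPullback.of_isLimit' ⟨pullback.lift_fst _ _ _⟩ (PullbackCone.IsLimit.mk _
        (fun s => WidePullback.lift (s.snd ≫ WidePullback.base _)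
          (Fin.snoc (fun i : Fin n => s.snd ≫ WidePullback.π (fun _ : Fin n => f) i) (s.fst ≫ pullback.snd H.hom f))
          ?_) (fun s => ?_) (fun s => ?_) fun s w h1 h2 => ?_)
      · intro i
        refine Fin.lastCases ?_ (fun i => ?_) i
        · rw [Fin.snoc_last, Category.assoc, ← pullback.condition, ← Category.assoc, s.condition, Category.assoc,
            Over.w μn]
          rfl
        · rw [Fin.snoc_castSucc, Category.assoc, WidePullback.π_arrow]
      · refine pullback.hom_ext ?_ ?_
        · rw [Category.assoc, pullback.lift_fst]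
          refine Eq.trans ?_ s.condition.symm
          rw [← Category.assoc]
          refine congrArg (· ≫ μn.left) (WidePullback.hom_ext _ _ _ (fun i => ?_) ?_)
          · rw [Category.assoc, WidePullback.lift_π, WidePullback.lift_π, Fin.snoc_castSucc]
          · rw [Category.assoc, WidePullback.lift_base, WidePullback.lift_base]
        · rw [Category.assoc, pullback.lift_snd, WidePullback.lift_π, Fin.snoc_last]
      · refine WidePullback.hom_ext _ _ _ (fun i => ?_) ?_
        · rw [Category.assoc, WidePullback.lift_π, WidePullback.lift_π, Fin.snoc_castSucc]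
        · rw [Category.assoc, WidePullback.lift_base, WidePullback.lift_base]
      · refine WidePullback.hom_ext _ _ _ (fun i => ?_) ?_
        · rw [WidePullback.lift_π]
          refine Fin.lastCases ?_ (fun i => ?_) i
          · rw [Fin.snoc_last, ← h1, Category.assoc, pullback.lift_snd]
          · rw [Fin.snoc_castSucc, ← h2, Category.assoc, WidePullback.lift_π]
        · rw [WidePullback.lift_base, ← h2, Category.assoc, WidePullback.lift_base]
    obtain ⟨⟨hf1, hf2, hf3⟩, hfd⟩ := ih H Z hZ μn hμn
    haveI := hf1; haveI := hf2; haveI := hf3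
    have htdeg : Mor2.IsFinLocFreeOfDeg n.factorial t := by
      haveI : IsFinite t := MorphismProperty.of_isPullback hsq.flip hf1
      haveI : Flat t := MorphismProperty.of_isPullback hsq.flip hf2
      haveI : LocallyOfFinitePresentation t := MorphismProperty.of_isPullback hsq.flip hf3
      exact ⟨⟨inferInstance, inferInstance, inferInstance⟩, fun y => by
        rw [Scheme.Hom.finrank_of_isPullback _ _ _ _ hsq.flip, hfd]⟩
    rw [hm'eq, Nat.factorial_succ]
    exact finLocFreeOfDeg_comp htdeg hmdeg

include hrep in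
/-- The classifying morphism of the fibre power, finite locally free of degree `n!`. -/
theorem exists_powOver_map (n : ℕ) {H : Over S} {Z : HilbD.Obj f n H} (hZ : HilbD.IsUniversal f n H Z) :
    ∃ m : powOver f n ⟶ H, HilbD.pull f m Z.1 = sumSec f (powOver f n) (tautPt f n) ∧
      Mor2.IsFinLocFreeOfDeg n.factorial m.left := by
  obtain ⟨m, hm, -⟩ := hZ (powOver f n) (sumObj f _ (tautPt f n))
  exact ⟨m, hm, powOver_finLocFree f hrep n H Z hZ m hm⟩

end Groth.Agent.HilbDLib
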