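import Mathlib.RingTheory.Spectrum.Prime.FreeLocus
import Mathlib.LinearAlgebra.LinearIndependent.Defs
import Mathlib.FieldTheory.Fixed
import Mathlib.LinearAlgebra.Dual.Lemmas

/-! # Elements of finite projective algebras constant on enough fibres -/

set_option autoImplicit false
set_option maxHeartbeats 1000000

universe u

open scoped TensorProduct

namespace Groth.Agent.HilbDLib

/-- Over a field, distinct characters as many as the dimension separate the elements. -/
theorem eq_zero_of_characters {K B : Type u} [Field K] [CommRing B] [Algebra K B] [Module.Finite K B] {ι : Type*}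
    [Fintype ι] (e : ι → (B →ₐ[K] K)) (he : Function.Injective e) (hcard : Fintype.card ι = Module.finrank K B)
    {x : B} (hx : ∀ i, e i x = 0) : x = 0 := by
  have hli : LinearIndependent K fun i => (e i).toLinearMap := by
    have h := (linearIndependent_monoidHom B K).comp (fun i => ((e i).toRingHom.toMonoidHom : B →* K))
      fun i j hij => he (AlgHom.ext fun b => DFunLike.congr_fun hij b)
    let L : Module.Dual K B →ₗ[K] (B → K) :=
      { toFun := fun φ b => φ b
        map_add' := fun φ ψ => rfl
        map_smul' := fun c φ => rfl }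
    exact LinearIndependent.of_comp L h
  have hspan : Submodule.span K (Set.range fun i => (e i).toLinearMap) = ⊤ :=
    hli.span_eq_top_of_card_eq_finrank' (by rw [hcard, Subspace.dual_finrank_eq])
  refine (Module.forall_dual_apply_eq_zero_iff K x).1 fun φ => ?_
  have hφ : φ ∈ Submodule.span K (Set.range fun i => (e i).toLinearMap) := by rw [hspan]; trivial
  induction hφ using Submodule.span_induction with
  | mem y hy => obtain ⟨i, rfl⟩ := hy; exact hx i
  | zero => rfl
  | add y z _ _ hy hz => simp [hy, hz]
  | smul c y _ hy => simp [hy]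

variable {A R : Type u} [CommRing A] [CommRing R] [Algebra A R] [Module.Finite A R] [Module.Projective A R]

/-- The values at `1` of the functionals generate the unit ideal. -/
theorem span_dual_one_eq_top (hs : Function.Surjective (PrimeSpectrum.comap (algebraMap A R))) :
    Ideal.span (Set.range fun φ : R →ₗ[A] A => φ 1) = ⊤ := by
  by_contra h
  obtain ⟨p, hp, hle⟩ := Ideal.exists_le_maximal _ h
  obtain ⟨q, hq⟩ := hs ⟨p, hp.isPrime⟩
  obtain ⟨n, f, g, -, -, hfg⟩ := Module.Finite.exists_comp_eq_id_of_projective A R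
  have h1 : (1 : R) ∈ q.asIdeal := by
    rw [show (1 : R) = f (g 1) from (LinearMap.congr_fun hfg 1).symm, ← Finset.univ_sum_single (g 1), map_sum]
    refine Ideal.sum_mem _ fun i _ => ?_
    rw [show Pi.single i (g 1 i) = g 1 i • (Pi.single i (1 : A) : Fin n → A) by
      rw [← Pi.single_smul', smul_eq_mul, mul_one], map_smul, Algebra.smul_def]
    refine q.asIdeal.mul_mem_right _ ?_
    have hi : g 1 i ∈ p := hle (Ideal.subset_span ⟨(LinearMap.proj i).comp g, rfl⟩)
    have hqp : q.asIdeal.comap (algebraMap A R) = p := congrArg PrimeSpectrum.asIdeal hq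
    rw [← hqp] at hi
    exact hi
  exact q.2.ne_top ((Ideal.eq_top_iff_one _).2 h1)

/-- **An element constant on enough reduced fibres comes from the base.** -/
theorem mem_range_of_characters {K : Type u} [Field K] (hs : Function.Surjective (PrimeSpectrum.comap (algebraMap A R)))
    (D : Set (A →+* K)) (hD : ∀ a, (∀ ε ∈ D, ε a = 0) → a = 0) (N : ℕ)
    (hN : ∀ p : PrimeSpectrum A, Module.rankAtStalk R p = N) (r : R)
    (hr : ∀ ε ∈ D, ∃ (ι : Type) (_ : Fintype ι) (e : ι → (R →+* K)) (c : K), Fintype.card ι = N ∧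
      Function.Injective e ∧ (∀ i, (e i).comp (algebraMap A R) = ε) ∧ ∀ i, e i r = c) :
    r ∈ Set.range (algebraMap A R) := by
  classical
  have key : ∀ ε ∈ D, ∃ c : K, ∀ φ : R →ₗ[A] A, ε (φ r) = c * ε (φ 1) := by
    intro ε hε
    obtain ⟨ι, _, e, c, hcard, he, hcomp, hc⟩ := hr ε hε
    letI : Algebra A K := ε.toAlgebra
    let ev : ι → (K ⊗[A] R →ₐ[K] K) := fun i =>
      Algebra.TensorProduct.lift (Algebra.ofId K K)
        { toRingHom := e i, commutes' := fun a => RingHom.congr_fun (hcomp i) a }
        fun _ _ => Commute.all _ _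
    have hev : ∀ i (s : K) (y : R), ev i (s ⊗ₜ[A] y) = s * e i y := fun i s y => by simp [ev]
    have hinj : Function.Injective ev := fun i j hij => he (RingHom.ext fun y => by
      have := AlgHom.congr_fun hij ((1 : K) ⊗ₜ[A] y)
      rwa [hev, hev, one_mul, one_mul] at this)
    have hfr : Module.finrank K (K ⊗[A] R) = N := by
      have h := Module.rankAtStalk_baseChange (R := A) (S := K) (M := R) ⟨⊥, Ideal.isPrime_bot⟩
      rw [Module.rankAtStalk_eq_finrank_of_free, Pi.natCast_apply, Nat.cast_id, hN] at h
      exact h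
    have hx : (1 : K) ⊗ₜ[A] r - c ⊗ₜ[A] (1 : R) = 0 := by
      refine eq_zero_of_characters ev hinj (hcard.trans hfr.symm) fun i => ?_
      rw [map_sub, hev, hev, hc, map_one, one_mul, mul_one, sub_self]
    refine ⟨c, fun φ => ?_⟩
    have h := congrArg ((TensorProduct.AlgebraTensorModule.rid A K K).toLinearMap ∘ₗ φ.baseChange K) hx
    rw [map_sub, map_zero, sub_eq_zero] at h
    simp only [LinearMap.comp_apply, LinearMap.baseChange_tmul, LinearEquiv.coe_coe,
      TensorProduct.AlgebraTensorModule.rid_tmul, Algebra.smul_def, RingHom.algebraMap_toAlgebra, mul_one] at h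
    exact h.trans (mul_comm _ _)
  have hswap : ∀ φ ψ : R →ₗ[A] A, φ r * ψ 1 = ψ r * φ 1 := fun φ ψ =>
    sub_eq_zero.1 (hD _ fun ε hε => by
      obtain ⟨c, hc⟩ := key ε hε
      rw [map_sub, map_mul, map_mul, hc, hc]
      ring)
  obtain ⟨l, hl⟩ := (Finsupp.mem_span_range_iff_exists_finsupp).1
    (show (1 : A) ∈ Submodule.span A (Set.range fun φ : R →ₗ[A] A => φ 1) by
      rw [← Ideal.span, span_dual_one_eq_top hs]; trivial)
  refine ⟨l.sum fun φ a => a * φ r, (sub_eq_zero.1 ((Module.forall_dual_apply_eq_zero_iff A _).1 fun ψ => ?_)).symm⟩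
  rw [map_sub, Algebra.algebraMap_eq_smul_one, map_smul, smul_eq_mul, sub_eq_zero, Finsupp.sum, Finset.sum_mul]
  conv_lhs => rw [← one_mul (ψ r), ← hl, Finsupp.sum, Finset.sum_mul]
  refine Finset.sum_congr rfl fun φ _ => ?_
  rw [smul_eq_mul, mul_assoc, mul_assoc, mul_comm (φ 1), ← hswap ψ φ, mul_comm]

/-- The structure map of a faithfully flat projective algebra is injective on the base. -/
theorem algebraMap_injective_of_surjective (hs : Function.Surjective (PrimeSpectrum.comap (algebraMap A R))) :
    Function.Injective (algebraMap A R) := by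
  rw [injective_iff_map_eq_zero]
  intro a ha
  obtain ⟨l, hl⟩ := (Finsupp.mem_span_range_iff_exists_finsupp).1
    (show (1 : A) ∈ Submodule.span A (Set.range fun φ : R →ₗ[A] A => φ 1) by
      rw [← Ideal.span, span_dual_one_eq_top hs]; trivial)
  rw [← mul_one a, ← hl, Finsupp.sum, Finset.mul_sum]
  refine Finset.sum_eq_zero fun φ _ => ?_
  rw [smul_eq_mul, mul_left_comm, ← smul_eq_mul a, ← map_smul, ← Algebra.algebraMap_eq_smul_one, ha, map_zero, mul_zero]

end Groth.Agent.HilbDLib
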