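import Groth.Agent.HilbDLib.Chart
import Groth.Agent.LineDesc.RelPic
import Groth.Agent.DescLib.IdealDescent

/-!
# The loci of the charts of the Hilbert functor of points
-/

set_option autoImplicit false
set_option linter.style.haveILetI false

universe u

open CategoryTheory CategoryTheory.Limits AlgebraicGeometry TensorProduct

namespace Groth.Agent.HilbDLib

noncomputable section

variable {X S : Scheme.{u}} {f : X ⟶ S} {d : ℕ}

theorem isFinite_pull {T T' : Over S} (g : T' ⟶ T) (I : (PicF.XT f T).IdealSheafData)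
    (h : IsFinite (I.subschemeι ≫ PicF.XTproj f T)) :
    IsFinite ((HilbD.pull f g I).subschemeι ≫ PicF.XTproj f T') := by
  have H := (IsPullback.of_hasPullback (PicF.XTmap f g) I.subschemeι).flip.paste_vert (isPullback_XTmap f g)
  have key : (HilbD.pull f g I).subschemeι ≫ PicF.XTproj f T' =
      (eqToHom (by rw [pull_eq_comap]) ≫ (I.comapIso (PicF.XTmap f g)).hom) ≫
        pullback.fst (PicF.XTmap f g) I.subschemeι ≫ PicF.XTproj f T' := by
    generalize HilbD.pull f g I = J, pull_eq_comap f g I = hJ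
    subst hJ
    simp
  haveI : IsFinite (pullback.fst (PicF.XTmap f g) I.subschemeι ≫ PicF.XTproj f T') :=
    MorphismProperty.of_isPullback (P := @IsFinite) H h
  rw [key]
  infer_instance

theorem support_pull {T T' : Over S} (g : T' ⟶ T) (I : (PicF.XT f T).IdealSheafData)
    (z : (HilbD.pull f g I).subscheme) :
    ∃ w : I.subscheme, I.subschemeι w = PicF.XTmap f g ((HilbD.pull f g I).subschemeι z) := by
  obtain ⟨c, hc⟩ : ∃ c, (HilbD.pull f g I).subschemeι = c ≫ pullback.fst (PicF.XTmap f g) I.subschemeι := by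
    generalize HilbD.pull f g I = J, pull_eq_comap f g I = hJ
    subst hJ
    exact ⟨(I.comapIso (PicF.XTmap f g)).hom, by simp⟩
  refine ⟨(c ≫ pullback.snd _ _) z, ?_⟩
  rw [← Scheme.Hom.comp_apply, Category.assoc, ← pullback.condition, ← Category.assoc, ← hc]
  rfl

theorem exists_over_support {T T' : Over S} (g : T' ⟶ T) (I : (PicF.XT f T).IdealSheafData)
    (w : I.subscheme) (t : T'.left) (h : g.left t = (I.subschemeι ≫ PicF.XTproj f T) w) :
    ∃ z : (HilbD.pull f g I).subscheme, PicF.XTmap f g ((HilbD.pull f g I).subschemeι z) = I.subschemeι w := by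
  have H := (IsPullback.of_hasPullback (PicF.XTmap f g) I.subschemeι).flip.paste_vert (isPullback_XTmap f g)
  obtain ⟨z₀, hz₀, -⟩ := Scheme.Pullback.exists_preimage_pullback (f := I.subschemeι ≫ PicF.XTproj f T)
    (g := g.left) w t h.symm
  obtain ⟨c, hc, hiso⟩ : ∃ c : (HilbD.pull f g I).subscheme ⟶ pullback (PicF.XTmap f g) I.subschemeι,
      (HilbD.pull f g I).subschemeι = c ≫ pullback.fst (PicF.XTmap f g) I.subschemeι ∧ IsIso c := by
    generalize HilbD.pull f g I = J, pull_eq_comap f g I = hJ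
    subst hJ
    exact ⟨(I.comapIso (PicF.XTmap f g)).hom, by simp, inferInstance⟩
  refine ⟨(inv c) (H.isoPullback.inv z₀), ?_⟩
  rw [← Scheme.Hom.comp_apply, ← Scheme.Hom.comp_apply, ← Scheme.Hom.comp_apply, hc]
  simp only [Category.assoc, IsIso.inv_hom_id_assoc, pullback.condition]
  rw [Scheme.Hom.comp_apply, Scheme.Hom.comp_apply, ← Scheme.Hom.comp_apply, ← Scheme.Hom.comp_apply]
  rw [← hz₀, ← Scheme.Hom.comp_apply]
  refine congrArg (fun m : pullback (I.subschemeι ≫ PicF.XTproj f T) g.left ⟶ PicF.XT f T => m z₀) ?_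
  rw [← Category.assoc]
  exact congrArg (fun m => m ≫ I.subschemeι) H.isoPullback_inv_fst

namespace Idx

variable (i : Idx f d)

/-- The support of a family lies over `U`. -/
def Supp (T : Over S) (I : (PicF.XT f T).IdealSheafData) : Prop :=
  ∀ z : I.subscheme, (I.subschemeι ≫ pullback.fst f T.hom) z ∈ i.U

/-- A family over an affine base, inside the chart open, is given by data. -/
theorem exists_dat {A : Type u} [CommRing A] (tV : Γ(S, i.V) →+* A)
    (I : (PicF.XT f (Over.mk (Spec.map (CommRingCat.ofHom tV) ≫ i.hV.fromSpec))).IdealSheafData)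
    (hfin : IsFinite (I.subschemeι ≫ PicF.XTproj f (Over.mk (Spec.map (CommRingCat.ofHom tV) ≫ i.hV.fromSpec))))
    (hsupp : i.Supp _ I) :
    ∃ D : i.Dat A, D.tV = tV ∧ IsClosedImmersion D.ι ∧ HEq D.ideal I := by
  let T : Over S := Over.mk (Spec.map (CommRingCat.ofHom tV) ≫ i.hV.fromSpec)
  let π₀ : I.subscheme ⟶ Spec (CommRingCat.of A) := I.subschemeι ≫ PicF.XTproj f T
  haveI : IsFinite π₀ := hfin
  haveI : IsAffine I.subscheme := isAffine_of_isAffineHom π₀
  let e := I.subscheme.isoSpec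
  obtain ⟨π, hπ⟩ : ∃ φ, Spec.map φ = e.inv ≫ π₀ := ⟨_, Spec.map_preimage _⟩
  have hrange : Set.range (I.subschemeι ≫ pullback.fst f T.hom) ⊆ Set.range i.hU.fromSpec := by
    rw [IsAffineOpen.range_fromSpec]
    rintro _ ⟨z, rfl⟩
    exact hsupp z
  let ψ₀ := IsOpenImmersion.lift i.hU.fromSpec (I.subschemeι ≫ pullback.fst f T.hom) hrange
  have hψ₀ : ψ₀ ≫ i.hU.fromSpec = I.subschemeι ≫ pullback.fst f T.hom := IsOpenImmersion.lift_fac _ _ _
  obtain ⟨ψ, hψ⟩ : ∃ φ, Spec.map φ = e.inv ≫ ψ₀ := ⟨_, Spec.map_preimage _⟩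
  letI : Algebra A Γ(I.subscheme, ⊤) := π.hom.toAlgebra
  have hfin' : π.hom.Finite := by
    rw [← IsFinite.SpecMap_iff, hπ]
    infer_instance
  haveI : Module.Finite A Γ(I.subscheme, ⊤) := hfin'
  have hw : ψ.hom.comp i.fR.hom = (algebraMap A Γ(I.subscheme, ⊤)).comp tV := by
    suffices h : i.fR ≫ ψ = CommRingCat.ofHom tV ≫ π from congrArg CommRingCat.Hom.hom h
    refine Spec.map_injective ?_
    rw [← cancel_mono i.hV.fromSpec, Spec.map_comp, Spec.map_comp, hπ, hψ, Category.assoc, Category.assoc,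
      Category.assoc, Category.assoc, IsAffineOpen.SpecMap_appLE_fromSpec f i.hV i.hU i.le, reassoc_of% hψ₀]
    simp only [π₀, Category.assoc]
    exact congrArg (fun m => e.inv ≫ I.subschemeι ≫ m) pullback.condition
  let D : i.Dat A := { tV := tV, Q := Γ(I.subscheme, ⊤), ψ := ψ.hom, w := hw }
  have hι : D.ι = e.inv ≫ I.subschemeι := by
    apply pullback.hom_ext
    · rw [D.ι_fst, Category.assoc]
      show Spec.map ψ ≫ _ = _
      rw [hψ, Category.assoc, hψ₀]
    · refine (D.ι_proj).trans ?_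
      show Spec.map π = _
      rw [hπ, Category.assoc]
  refine ⟨D, rfl, ?_, heq_of_eq ?_⟩
  · rw [hι]; infer_instance
  · show D.ι.ker = I
    rw [hι, Scheme.Hom.ker_comp_of_isIso, Scheme.IdealSheafData.ker_subschemeι]

variable {i} {A : Type u} [CommRing A] (D : i.Dat A)

theorem Dat.supp_ideal [IsClosedImmersion D.ι] : i.Supp D.ov D.ideal := by
  intro z
  have h : z ∈ Set.range D.ι.toImage := D.ι.toImage.homeomorph.surjective z
  obtain ⟨w, rfl⟩ := h
  rw [← Scheme.Hom.comp_apply, ← Category.assoc]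
  show (D.ι.toImage ≫ D.ι.imageι ≫ pullback.fst f D.ov.hom) w ∈ i.U
  rw [Scheme.Hom.toImage_imageι_assoc, D.ι_fst]
  show i.hU.fromSpec _ ∈ (i.U : Set X)
  rw [← i.hU.range_fromSpec]
  exact ⟨_, rfl⟩

theorem Dat.deg_iff [IsClosedImmersion D.ι] :
    Mor2.IsFinLocFreeOfDeg d (D.ideal.subschemeι ≫ PicF.XTproj f D.ov) ↔
      Mor2.IsFinLocFreeOfDeg d (Spec.map (CommRingCat.ofHom (algebraMap A D.Q))) := by
  rw [finLocFreeOfDeg_ker, D.ι_proj]

theorem Dat.projective_rank [IsClosedImmersion D.ι]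
    (h : Mor2.IsFinLocFreeOfDeg d (D.ideal.subschemeι ≫ PicF.XTproj f D.ov)) :
    Module.Projective A D.Q ∧ ∀ p, Module.rankAtStalk (R := A) D.Q p = d := by
  obtain ⟨⟨h1, h2, h3⟩, h4⟩ := D.deg_iff.1 h
  have hfl : (algebraMap A D.Q).Flat := (Flat.SpecMap_iff (f := CommRingCat.ofHom (algebraMap A D.Q))).1 h2
  have hfp : (algebraMap A D.Q).FinitePresentation := (LocallyOfFinitePresentation.SpecMap_iff (CommRingCat.ofHom (algebraMap A D.Q))).1 h3
  haveI : Module.Flat A D.Q := RingHom.flat_algebraMap_iff.1 hfl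
  haveI : Algebra.FinitePresentation A D.Q := RingHom.finitePresentation_algebraMap.1 hfp
  haveI : Module.FinitePresentation A D.Q := Module.FinitePresentation.of_finite_of_finitePresentation _ _
  refine ⟨Module.Flat.projective_of_finitePresentation, fun p => ?_⟩
  rw [← Scheme.Hom.finrank_SpecMap_algebraMap A D.Q p]
  exact h4 p

/-- If the prescribed sections span then the family is in the chart. -/
theorem Dat.isIn_of_span [IsSeparated f] [IsClosedImmersion D.ι]
    (h : Mor2.IsFinLocFreeOfDeg d (D.ideal.subschemeι ≫ PicF.XTproj f D.ov))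
    (hs : Submodule.span A (Set.range (D.ψ ∘ i.b)) = ⊤) : i.IsIn D.ov D.ideal := by
  obtain ⟨hproj, hrank⟩ := D.projective_rank h
  obtain ⟨e, he⟩ := Chart.exists_basis_of_span hrank (D.ψ ∘ i.b) hs
  exact D.isIn e he

/-- The pullback of the universal family along a point. -/
theorem exists_point {A : Type u} [CommRing A] {t : Spec (CommRingCat.of A) ⟶ S} (q : Over.mk t ⟶ i.P) :
    ∃ (χ : Chart.Ring' (R := Γ(S, i.V)) i.b →+* A),
      Spec.map (CommRingCat.ofHom χ) = q.left ∧
      t = Spec.map (CommRingCat.ofHom (χ.comp i.univDat.tV)) ≫ i.hV.fromSpec := by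
  obtain ⟨φ, hφ⟩ : ∃ φ, Spec.map φ = q.left := ⟨_, Spec.map_preimage _⟩
  refine ⟨φ.hom, hφ, ?_⟩
  refine (Over.w q).symm.trans ?_
  show q.left ≫ _ ≫ _ = _
  rw [← hφ, ← Spec.map_comp_assoc]
  rfl

end Idx

end

end Groth.Agent.HilbDLib
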