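import Groth.Agent.HilbDLib.FieldIso
import Groth.Agent.HilbDLib.Rep
import Groth.Agent.HilbDLib.Separated
import Groth.Agent.SymChart.BaseChange
import Groth.Agent.SGA1Q.Properties
import Groth.Agent.S2763
import Mathlib.AlgebraicGeometry.Morphisms.FlatDescent
import Mathlib.AlgebraicGeometry.Morphisms.Finite

/-!
# The symmetric product of a smooth curve is its Hilbert scheme of points
-/

set_option autoImplicit false
set_option maxHeartbeats 1000000
set_option linter.style.haveILetI false
set_option backward.isDefEq.respectTransparency false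
set_option backward.isDefEq.respectTransparency.types false

universe u
open CategoryTheory CategoryTheory.Limits AlgebraicGeometry TopologicalSpace
open SymProd

noncomputable section

namespace Groth.Agent.HilbDLib

variable {C S : Scheme.{u}} (f : C ⟶ S)

theorem representable_of_isAF [IsSeparated f] (hAF : IsAF f) (e : ℕ) : HilbD.Representable f e := by
  classical
  refine representable fun s x hx => ?_
  obtain ⟨U, hU, hxU⟩ := hAF s (Finset.univ.image x) fun z hz => by
    obtain ⟨j, -, rfl⟩ := Finset.mem_image.1 hz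
    exact hx j
  exact ⟨U, hU, fun j => hxU _ (Finset.mem_image.2 ⟨j, Finset.mem_univ _, rfl⟩)⟩

variable [IsSeparated f] [SmoothOfRelativeDimension 1 f]

/-- The classifying morphism of the fibre power is symmetric. -/
theorem permHom_comp_of_universal {n : ℕ} {H : Over S} {Z : HilbD.Obj f n H} (hZ : HilbD.IsUniversal f n H Z)
    (m : powOver f n ⟶ H) (hm : HilbD.pull f m Z.1 = sumSec f (powOver f n) (tautPt f n)) (σ : Equiv.Perm (Fin n)) :
    permHom f n σ ≫ m.left = m.left := by
  let σO : powOver f n ⟶ powOver f n := Over.homMk (permHom f n σ) (permHom_base f n σ)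
  refine congrArg CommaMorphism.left ((hZ (powOver f n) (sumObj f _ (tautPt f n))).unique
    (?_ : HilbD.pull f (σO ≫ m) Z.1 = _) hm)
  rw [← pull_pull, hm, pull_sumSec]
  show sumSec f _ _ = sumSec f _ _
  rw [sumSec_congr f (y := fun i => tautPt f n (σ.symm i)) fun i => permHom_π f n σ i]
  exact Equiv.prod_comp σ.symm fun i => (sec f (powOver f n) (tautPt f n i).left (Over.w (tautPt f n i))).ker

/-- **Base change of a map out of a symmetric product to a point is an isomorphism.** -/
theorem isIso_geometricFibre {K : Type u} [Field K] [IsAlgClosed K] {n : ℕ} (hAF : IsAF f)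
    {Y : Scheme.{u}} {q : fibPow f n ⟶ Y} {g : Y ⟶ S} (hq : IsSymProd f n q g)
    {H : Scheme.{u}} (hH : H ⟶ S) [Smooth hH] (h : Y ⟶ H) (hover : h ≫ hH = g)
    (hdeg : Mor2.IsFinLocFreeOfDeg n.factorial (q ≫ h)) (σ : Spec (CommRingCat.of K) ⟶ S) :
    IsIso (pullback.snd h (pullback.fst hH σ)) := by
  obtain ⟨⟨hm1, hm2, hm3⟩, hrk⟩ := hdeg
  haveI := hm1; haveI := hm2; haveI := hm3
  haveI : Smooth f := SmoothOfRelativeDimension.smooth (n := 1) _
  haveI := smoothOfRelativeDimension_isStableUnderBaseChange 1
  haveI : SmoothOfRelativeDimension 1 (pullback.snd f σ) :=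
    MorphismProperty.pullback_snd (P := @SmoothOfRelativeDimension 1) f σ inferInstance
  let c : fibPow (pullback.snd f σ) n ⟶ fibPow f n :=
    WidePullback.lift (WidePullback.base (fun _ => pullback.snd f σ) ≫ σ)
      (fun i => WidePullback.π (fun _ => pullback.snd f σ) i ≫ pullback.fst f σ) fun i => by
        rw [Category.assoc, pullback.condition, WidePullback.π_arrow_assoc]
  have hcπ : ∀ i : Fin n, c ≫ WidePullback.π (fun _ => f) i =
      WidePullback.π (fun _ => pullback.snd f σ) i ≫ pullback.fst f σ := fun i => WidePullback.lift_π _ _ _ _ i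
  have hcb : c ≫ WidePullback.base (fun _ => f) = WidePullback.base (fun _ => pullback.snd f σ) ≫ σ :=
    WidePullback.lift_base _ _ _ _
  let q' : fibPow (pullback.snd f σ) n ⟶ pullback g σ :=
    pullback.lift (c ≫ q) (WidePullback.base (fun _ => pullback.snd f σ)) (by rw [Category.assoc, hq.over, hcb])
  have hq' := SymChart.isSymProd_baseChange f n σ hcπ hcb (q' := q') (pullback.lift_fst _ _ _)
    (pullback.lift_snd _ _ _) hAF hq
  let h' : pullback g σ ⟶ pullback hH σ :=
    pullback.lift (pullback.fst g σ ≫ h) (pullback.snd g σ) (by rw [Category.assoc, hover, pullback.condition])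
  have hsq : IsPullback (pullback.fst g σ) h' h (pullback.fst hH σ) := by
    refine IsPullback.of_bot ?_ (pullback.lift_fst _ _ _).symm (IsPullback.of_hasPullback hH σ)
    rw [show h' ≫ pullback.snd hH σ = pullback.snd g σ from pullback.lift_snd _ _ _, hover]
    exact IsPullback.of_hasPullback g σ
  have hsq' : IsPullback c (q' ≫ h') (q ≫ h) (pullback.fst hH σ) := by
    refine IsPullback.of_bot ?_ ?_ (IsPullback.of_hasPullback hH σ)
    · rw [Category.assoc q' h', show h' ≫ pullback.snd hH σ = pullback.snd g σ from pullback.lift_snd _ _ _,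
        show q' ≫ pullback.snd g σ = _ from pullback.lift_snd _ _ _, Category.assoc q h, hover, hq.over]
      exact SymChart.isPullback_fibPow f n σ hcπ hcb
    · rw [Category.assoc, show h' ≫ pullback.fst hH σ = pullback.fst g σ ≫ h from pullback.lift_fst _ _ _,
        pullback.lift_fst_assoc, Category.assoc]
  haveI : IsFinite (q' ≫ h') := MorphismProperty.of_isPullback hsq' hm1
  haveI : Flat (q' ≫ h') := MorphismProperty.of_isPullback hsq' hm2
  haveI : LocallyOfFinitePresentation (q' ≫ h') := MorphismProperty.of_isPullback hsq' hm3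
  have hdeg' : Mor2.IsFinLocFreeOfDeg n.factorial (q' ≫ h') :=
    ⟨⟨inferInstance, inferInstance, inferInstance⟩, fun y => by
      rw [Scheme.Hom.finrank_of_isPullback _ _ _ _ hsq', hrk]⟩
  have hm' := isQuot_of_finLocFree_field (pullback.snd f σ) (pullback.snd hH σ) (q' ≫ h') hdeg' fun τ => by
    rw [← permActU_hom (pullback.snd f σ) n ⟨τ⟩, ← Category.assoc, hq'.isQuot.inv]
  obtain ⟨k, hk, -⟩ := SGA1Q.desc_existsUnique_isQuot hm' q' hq'.isQuot.inv
  haveI := SGA1Q.epi_of_surjective_of_injective q' (SGA1Q.surjective hq'.isQuot) hq'.isQuot.injective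
  haveI := SGA1Q.epi_of_surjective_of_injective (q' ≫ h') (SGA1Q.surjective hm') hm'.injective
  haveI : IsIso h' := ⟨k, by rw [← cancel_epi q', ← Category.assoc, hk, Category.comp_id],
    by rw [← cancel_epi (q' ≫ h'), ← Category.assoc, hk, Category.comp_id]⟩
  rw [← hsq.isoPullback_inv_snd]
  infer_instance

variable [IsLocallyNoetherian S]

/-- **The symmetric product of a smooth curve is the Hilbert scheme of points.** -/
theorem exists_symIso (hAF : IsAF f) {n : ℕ} {Y : Scheme.{u}} {q : fibPow f n ⟶ Y} {g : Y ⟶ S}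
    (hq : IsSymProd f n q g) :
    ∃ (H : Over S) (Z : HilbD.Obj f n H) (m : powOver f n ⟶ H) (h : Y ⟶ H.left),
      HilbD.IsUniversal f n H Z ∧ HilbD.pull f m Z.1 = sumSec f (powOver f n) (tautPt f n) ∧
      Mor2.IsFinLocFreeOfDeg n.factorial m.left ∧ Smooth H.hom ∧ IsIso h ∧ q ≫ h = m.left ∧ h ≫ H.hom = g := by
  have hrep := representable_of_isAF f hAF
  obtain ⟨H, Z, hZ⟩ := hrep n
  obtain ⟨m, hm, hdeg⟩ := exists_powOver_map f hrep n hZ
  haveI hHs := smooth_hilb f hrep hZ
  have hinv := permHom_comp_of_universal f hZ m hm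
  obtain ⟨h, hh, -⟩ := SGA1Q.desc_existsUnique_isQuot hq.isQuot m.left fun σ => by
    rw [permActU_hom]; exact hinv _
  haveI := hq.isQuot.affine
  haveI := SGA1Q.epi_of_surjective_of_injective q (SGA1Q.surjective hq.isQuot) hq.isQuot.injective
  have hover : h ≫ H.hom = g := by rw [← cancel_epi q, ← Category.assoc, hh, Over.w m, hq.over]; rfl
  obtain ⟨⟨hm1, hm2, hm3⟩, hrk⟩ := hdeg
  haveI := hm1; haveI := hm2; haveI := hm3
  haveI : LocallyOfFiniteType H.hom := inferInstance
  haveI : IsLocallyNoetherian H.left := LocallyOfFiniteType.isLocallyNoetherian H.hom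
  haveI : IsAffineHom h := (SGA1Q.isAffineHom_iff_of_isQuot hq.isQuot hh).1 inferInstance
  haveI : LocallyOfFiniteType h := SGA1Q.locallyOfFiniteType_of_isQuot hq.isQuot hh inferInstance
  haveI : IsFinite h := by
    haveI : UniversallyClosed (q ≫ h) := by rw [hh]; infer_instance
    haveI : Surjective q := ⟨SGA1Q.surjective hq.isQuot⟩
    haveI : UniversallyClosed h := UniversallyClosed.of_comp_surjective q h
    rw [IsFinite.iff_isProper_and_isAffineHom]
    exact ⟨⟨⟩, inferInstance⟩
  haveI : Smooth f := SmoothOfRelativeDimension.smooth (n := 1) _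
  haveI : Flat g := SymChart.flat_symProd f n hAF hq
  haveI : LocallyOfFiniteType g := by rw [← hover]; infer_instance
  haveI : LocallyOfFinitePresentation g := inferInstance
  have hdeg' : Mor2.IsFinLocFreeOfDeg n.factorial (q ≫ h) := by
    rw [hh]; exact ⟨⟨hm1, hm2, hm3⟩, hrk⟩
  have hgeo : ∀ (K : Type u) [Field K] [IsAlgClosed K] (σ : Spec (CommRingCat.of K) ⟶ S),
      IsIso (pullback.snd h (pullback.fst H.hom σ)) :=
    fun K _ _ σ => isIso_geometricFibre f hAF hq H.hom h hover hdeg' σ
  haveI : Etale h := (S2763.result H.hom g h hover).2 fun s => by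
    let K := AlgebraicClosure (S.residueField s)
    let τ : Spec (CommRingCat.of K) ⟶ Spec (S.residueField s) :=
      Spec.map (CommRingCat.ofHom (algebraMap (S.residueField s) K))
    let σ := τ ≫ S.fromSpecResidueField s
    haveI := hgeo K σ
    haveI : Subsingleton ↥(Spec (S.residueField s)) := inferInstanceAs (Subsingleton (PrimeSpectrum (S.residueField s)))
    haveI : Flat τ := Flat.SpecMap_iff.2 (RingHom.flat_algebraMap_iff.2 inferInstance)
    haveI : Surjective τ := ⟨fun x => ⟨IsLocalRing.closedPoint K, Subsingleton.elim _ _⟩⟩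
    let k : pullback H.hom σ ⟶ H.hom.fiber s :=
      pullback.lift (pullback.fst H.hom σ) (pullback.snd H.hom σ ≫ τ) (by rw [Category.assoc]; exact pullback.condition)
    have hk : k ≫ H.hom.fiberι s = pullback.fst H.hom σ := pullback.lift_fst _ _ _
    have hk' : k ≫ H.hom.fiberToSpecResidueField s = pullback.snd H.hom σ ≫ τ := pullback.lift_snd _ _ _
    have hksq : IsPullback k (pullback.snd H.hom σ) (H.hom.fiberToSpecResidueField s) τ := by
      refine IsPullback.of_right ?_ hk' (IsPullback.of_hasPullback H.hom (S.fromSpecResidueField s))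
      show IsPullback (k ≫ H.hom.fiberι s) _ _ _
      rw [hk]
      exact IsPullback.of_hasPullback H.hom σ
    have hQ : (@Surjective ⊓ @Flat ⊓ @QuasiCompact : MorphismProperty Scheme.{u}) k :=
      ⟨⟨MorphismProperty.of_isPullback (P := @Surjective) hksq.flip inferInstance,
        MorphismProperty.of_isPullback (P := @Flat) hksq.flip inferInstance⟩,
        MorphismProperty.of_isPullback (P := @QuasiCompact) hksq.flip inferInstance⟩
    have hsq1 : IsPullback (pullback.fst h (pullback.fst H.hom σ)) (pullback.snd h (pullback.fst H.hom σ)) h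
        (k ≫ H.hom.fiberι s) := by rw [hk]; exact IsPullback.of_hasPullback _ _
    let a : pullback h (pullback.fst H.hom σ) ⟶ pullback h (H.hom.fiberι s) :=
      pullback.lift (pullback.fst h (pullback.fst H.hom σ)) (pullback.snd h (pullback.fst H.hom σ) ≫ k)
        (by rw [Category.assoc, hk]; exact pullback.condition)
    have hsq2 : IsPullback a (pullback.snd h (pullback.fst H.hom σ)) (pullback.snd h (H.hom.fiberι s)) k := by
      refine IsPullback.of_right ?_ (pullback.lift_snd _ _ _) (IsPullback.of_hasPullback h (H.hom.fiberι s))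
      rw [pullback.lift_fst]
      exact hsq1
    have hiso : MorphismProperty.isomorphisms Scheme.{u} (pullback.snd h (H.hom.fiberι s)) :=
      MorphismProperty.of_isPullback_of_descendsAlong (P := MorphismProperty.isomorphisms Scheme.{u})
        (Q := (@Surjective ⊓ @Flat ⊓ @QuasiCompact : MorphismProperty Scheme.{u})) hsq2.flip hQ
        (show IsIso (pullback.snd h (pullback.fst H.hom σ)) from inferInstance)
    haveI : IsIso (pullback.snd h (H.hom.fiberι s)) := hiso
    infer_instance
  haveI : IsIso h := by
    rw [Scheme.Hom.isIso_iff_finrank_eq]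
    funext y
    let s := H.hom y
    let K := AlgebraicClosure (S.residueField s)
    let σ : Spec (CommRingCat.of K) ⟶ S :=
      Spec.map (CommRingCat.ofHom (algebraMap (S.residueField s) K)) ≫ S.fromSpecResidueField s
    haveI := hgeo K σ
    obtain ⟨a, ha, -⟩ := Scheme.Pullback.exists_preimage_pullback (f := H.hom) (g := σ) y
      (IsLocalRing.closedPoint K : PrimeSpectrum K) (Scheme.fromSpecResidueField_apply _ _).symm
    rw [← ha, ← Scheme.Hom.finrank_pullback_snd, Scheme.Hom.finrank_eq_one_of_isIso]
    rfl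
  exact ⟨H, Z, m, h, hZ, hm, ⟨⟨hm1, hm2, hm3⟩, hrk⟩, hHs, inferInstance, hh, hover⟩

end Groth.Agent.HilbDLib
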